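import Cfsg.Prelude.Def_SteinbergCover
import Cfsg.Agent.Lib.Chevalley.StSteinberg

/-!
The group presented by the additivity and commutator relators as a covering system, and maps out of it.
-/

set_option autoImplicit false

open scoped Matrix

namespace Cfsg.Agent.Chevalley.Cover.Sys

open Cfsg.Lie Cfsg.Agent.Chevalley.Table Cfsg.Agent.Chevalley.Cert Cfsg.Agent.Chevalley.Group
  Cfsg.Agent.Chevalley.Borel Cfsg.Agent.Chevalley.Unip Cfsg.Agent.Chevalley.StUnip
  Cfsg.Agent.Chevalley.StSteinberg

variable {D : ChevalleyDatum} {F : Type*} [Field F] {T : Tab}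

/-- A family in a group satisfying the two kinds of relators. -/
structure Rels (D : ChevalleyDatum) {F : Type*} [Field F] {G : Type*} [Group G]
    (X : ℕ → F → G) : Prop where
  add : ∀ r < D.nroots, ∀ t u, X r (t + u) = X r t * X r u
  comm : ∀ r < D.nroots, ∀ s < D.nroots, s ≠ r → s ≠ D.neg r → ∀ t u, X s u * X r t =
    X r t * X s u * ((D.commWord F r s t u).map fun p => X p.1 p.2).prod

theorem scGen_add {r : ℕ} (hr : r < D.nroots) (t u : F) :
    D.scGen F r (t + u) = D.scGen F r t * D.scGen F r u := by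
  have h := PresentedGroup.one_of_mem (rels := D.steinbergRelsAB F)
    (x := D.stX r t * D.stX r u * (D.stX r (t + u))⁻¹) (Or.inl ⟨r, t, u, hr, rfl⟩)
  rw [map_mul, map_mul, map_inv, mul_inv_eq_one] at h
  exact h.symm

theorem scGen_prod (w : List (ℕ × F)) :
    PresentedGroup.mk (D.steinbergRelsAB F) (D.stWord w) =
      (w.map fun p => D.scGen F p.1 p.2).prod := by
  rw [ChevalleyDatum.stWord, map_list_prod, List.map_map]; rfl

theorem scGen_comm {r s : ℕ} (hr : r < D.nroots) (hs : s < D.nroots) (hne : s ≠ r)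
    (hnn : s ≠ D.neg r) (t u : F) : D.scGen F s u * D.scGen F r t =
      D.scGen F r t * D.scGen F s u * ((D.commWord F r s t u).map fun p => D.scGen F p.1 p.2).prod := by
  have h := PresentedGroup.one_of_mem (rels := D.steinbergRelsAB F)
    (x := (D.stX s u)⁻¹ * (D.stX r t)⁻¹ * D.stX s u * D.stX r t * (D.stWord (D.commWord F r s t u))⁻¹)
    (Or.inr ⟨r, s, t, u, hr, hs, hne, hnn, rfl⟩)
  rw [map_mul, map_inv, mul_inv_eq_one, scGen_prod] at h
  rw [← h]
  simp only [ChevalleyDatum.scGen, map_mul, map_inv]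
  group

theorem scGen_rels : Rels D (D.scGen F) :=
  ⟨fun _ hr => scGen_add hr, fun _ hr _ hs => scGen_comm hr hs⟩

theorem scGen_of {r : ℕ} (hr : r < D.nroots) (t : F) :
    D.scGen F r t = PresentedGroup.of ((⟨r, hr⟩, t) : Fin D.nroots × F) := by
  simp [ChevalleyDatum.scGen, ChevalleyDatum.stX, hr]; rfl

theorem scGen_closure :
    Subgroup.closure {g | ∃ r t, r < D.nroots ∧ g = D.scGen F r t} = ⊤ := by
  rw [eq_top_iff, ← PresentedGroup.closure_range_of]
  refine Subgroup.closure_mono ?_
  rintro g ⟨⟨⟨r, hr⟩, t⟩, rfl⟩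
  exact ⟨r, t, hr, (scGen_of hr t).symm⟩

theorem scHom_ext {G : Type*} [Group G] {f g : D.SteinbergCover F →* G}
    (h : ∀ r < D.nroots, ∀ t, f (D.scGen F r t) = g (D.scGen F r t)) : f = g := by
  refine MonoidHom.eq_of_eqOn_dense scGen_closure ?_
  rintro x ⟨r, t, hr, rfl⟩
  exact h r hr t

variable (hC : Certified D T)
include hC

/-- The map out of the cover given by a family with the relations. -/
theorem exists_hom {G : Type*} [Group G] {X : ℕ → F → G} (hX : Rels D X) :
    ∃ f : D.SteinbergCover F →* G, ∀ r < D.nroots, ∀ t, f (D.scGen F r t) = X r t := by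
  let g : Fin D.nroots × F → G := fun p => X p.1 p.2
  have hl : ∀ r, r < D.nroots → ∀ t, FreeGroup.lift g (D.stX r t) = X r t := fun r hr t => by
    simp [ChevalleyDatum.stX, hr, g]
  have hrel : ∀ w ∈ D.steinbergRelsAB F, FreeGroup.lift g w = 1 := by
    rintro w (⟨r, a, b, hr, rfl⟩ | ⟨r, s, t, u, hr, hs, hne, hnn, rfl⟩)
    · simp only [map_mul, map_inv, hl r hr, hX.add r hr, mul_inv_cancel]
    · have hw : FreeGroup.lift g (D.stWord (D.commWord F r s t u)) =
          ((D.commWord F r s t u).map fun p => X p.1 p.2).prod := by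
        rw [ChevalleyDatum.stWord, map_list_prod, List.map_map]
        congr 1
        refine List.map_congr_left fun p hp => ?_
        simp only [ChevalleyDatum.commWord, List.mem_map] at hp
        obtain ⟨c, hc, rfl⟩ := hp
        exact hl _ (Relations.commTerms_lt hC hr hs c hc) _
      simp only [map_mul, map_inv, hl r hr, hl s hs, hw]
      rw [mul_assoc _ (X s u), hX.comm r hr s hs hne hnn]
      group
  refine ⟨PresentedGroup.toGroup hrel, fun r hr t => ?_⟩
  rw [scGen_of hr, PresentedGroup.toGroup.of]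

theorem xg_rels : Rels D (fun r t => xg (F := F) hC r t) :=
  ⟨fun r _ t u => xg_add hC r t u, fun r hr s hs hne hnn t u => by
    simpa using xg_comm hC hr hs hne hnn t u⟩

theorem theta_exists :
    ∃ f : D.SteinbergCover F →* GL D.Idx F, ∀ r < D.nroots, ∀ t, f (D.scGen F r t) = xg hC r t :=
  exists_hom hC (xg_rels hC)

/-- The natural map to the general linear group. -/
noncomputable def th : D.SteinbergCover F →* GL D.Idx F := (theta_exists hC).choose

theorem th_gen : ∀ r < D.nroots, ∀ t, th hC (D.scGen F r t) = xg hC r t :=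
  (theta_exists hC).choose_spec

/-- The cover as a system. -/
noncomputable def scSys : StUnip.Sys hC F (D.SteinbergCover F) where
  X := D.scGen F
  th := th hC
  th_X := th_gen hC
  add _ hr := scGen_add hr
  comm _ hr _ hs := scGen_comm hr hs
  gen := scGen_closure

end Cfsg.Agent.Chevalley.Cover.Sys
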