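import Cfsg.Agent.Lib.Chevalley.Cover.Lift
import Cfsg.Agent.Lib.Chevalley.Cover.Sys
import Cfsg.Agent.Lib.Chevalley.Cover.TorCheck

/-!
Over a prime field of odd order, commuting root elements exchanged by a monomial element with equal
signs have commuting lifts.
-/

set_option autoImplicit false

open scoped Matrix commutatorElement

namespace Cfsg.Agent.Chevalley.Cover.Swap

open Cfsg.Lie Cfsg.Agent.Chevalley.Eval Cfsg.Agent.Chevalley.Table Cfsg.Agent.Chevalley.Check
  Cfsg.Agent.Chevalley.Cert Cfsg.Agent.Chevalley.Group Cfsg.Agent.Chevalley.StUnip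
  Cfsg.Agent.Chevalley.StKernel Cfsg.Agent.Chevalley.Cover Cfsg.Agent.Chevalley.Cover.TorCheck

section Abstract

variable {E G : Type*} [Group E] [Group G] {π : E →* G}

/-- The swap argument. -/
theorem commute_of_swap (hπ : Function.Surjective π) (hc : π.ker ≤ Subgroup.center E) {a b n : G}
    {p : ℕ} (hp : Odd p) (hap : a ^ p = 1) (hab : Commute a b) {ε : ℤ} (hε : ε = 1 ∨ ε = -1)
    (hna : n * a * n⁻¹ = b ^ ε) (hnb : n * b * n⁻¹ = a ^ ε) {x y : E} (hx : π x = a) (hy : π y = b) :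
    Commute x y := by
  obtain ⟨m, hm⟩ := hπ n
  obtain ⟨ω, hω⟩ : ∃ ω, ω = ⁅x, y⁆ := ⟨_, rfl⟩
  have hω1 : π ω = 1 := by
    rw [hω, map_commutatorElement, hx, hy, commutatorElement_eq_one_iff_mul_comm]; exact hab
  have hcω : ∀ g, Commute ω g := fun g => Lift.comm_central hc hω1 g
  have hpow : ∀ k : ℕ, ⁅x ^ k, y⁆ = ω ^ k := by
    intro k
    induction k with
    | zero => simp
    | succ k ih =>
      rw [pow_succ', Lift.comm_mul_left, ih, ← hω, pow_succ]
      congr 1
      rw [((hcω x).pow_left k).symm.eq, mul_inv_cancel_right]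
  have h1 : ω ^ p = 1 := by
    rw [← hpow, commutatorElement_eq_one_iff_mul_comm]
    exact (Lift.comm_central hc (by rw [map_pow, hx, hap]) y)
  have h2 : ω = ⁅y, x⁆ := by
    calc ω = m * ω * m⁻¹ := by rw [(hcω m).symm.eq, mul_inv_cancel_right]
      _ = ⁅m * x * m⁻¹, m * y * m⁻¹⁆ := by rw [hω]; simp only [commutatorElement_def]; group
      _ = ⁅y ^ ε, x ^ ε⁆ := Lift.comm_congr hc (by simp [map_mul, hm, hx, hy, hna])
          (by simp [map_mul, hm, hx, hy, hnb])
      _ = _ := by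
        rcases hε with rfl | rfl
        · rw [zpow_one, zpow_one]
        · rw [zpow_neg_one, zpow_neg_one]
          have hz : ∀ g, Commute ⁅y, x⁆ g := fun g => by
            rw [← commutatorElement_inv, ← hω]; exact (hcω g).inv_left
          have e : ⁅y⁻¹, x⁻¹⁆ = (x * y)⁻¹ * ⁅y, x⁆ * (x * y) := by
            simp only [commutatorElement_def]; group
          rw [e, mul_assoc, (hz (x * y)).eq, inv_mul_cancel_left]
  rw [← commutatorElement_inv, ← hω] at h2
  obtain ⟨k, rfl⟩ := hp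
  rw [pow_succ, pow_mul, show ω ^ 2 = 1 by rw [pow_two]; exact eq_inv_iff_mul_eq_one.1 h2, one_pow,
    one_mul] at h1
  rw [h1] at hω
  exact commutatorElement_eq_one_iff_mul_comm.1 hω.symm

end Abstract

/-- The sign with which a word of monomial elements moves a root element. -/
noncomputable def sgnT (T : Tab) (w : List ℕ) (r : ℕ) : ℤ :=
  List.rec (Int.ofNat 1) (fun i v ih => Int.mul (T.eta i (wLT T v r)) ih) w

/-- A word exchanges the roots with equal signs. -/
noncomputable def swapOK (T : Tab) (W : List (List ℕ)) (r s : ℕ) : Bool :=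
  anyL (fun w => allL (fun i => Nat.blt i T.l) w &&
    (Nat.beq (wLT T w r) s && (Nat.beq (wLT T w s) r && ieq (sgnT T w r) (sgnT T w s)))) W

variable {D : ChevalleyDatum} {F : Type*} [Field F] {T : Tab} (hC : Certified D T) (hT : HasCerts T)
  {G : Type*} [Group G] (S : StUnip.Sys hC F G)
include hT

theorem nbL_sgn {w : List ℕ} (hw : ∀ i ∈ w, i < D.rank) {r : ℕ} (hr : r < D.nroots) :
    (∀ t : F, nbL S w * S.X r t * (nbL S w)⁻¹ = S.X (wLT T w r) ((sgnT T w r : F) * t)) ∧
      (sgnT T w r = 1 ∨ sgnT T w r = -1) ∧ wLT T w r < D.nroots := by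
  induction w with
  | nil => exact ⟨fun t => by simp [nbL, wLT, sgnT], Or.inl rfl, hr⟩
  | cons i w ih =>
    obtain ⟨h1, h2, h3⟩ := ih fun j hj => hw j (List.mem_cons_of_mem i hj)
    have hi := hw i List.mem_cons_self
    have e : wLT T (i :: w) r = D.reflectRoot i (wLT T w r) := (hC.reflect_eq hi h3).symm
    have es : sgnT T (i :: w) r = T.eta i (wLT T w r) * sgnT T w r := rfl
    refine ⟨fun t => ?_, ?_, e ▸ hC.reflect_lt hi h3⟩
    · rw [nbL_cons, e, es, Int.cast_mul, mul_assoc _ _ t, ← n1_conj_x S hT hi h3, ← h1]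
      group
    · rw [es]
      rcases Certified.eta_cases (T := T) i (wLT T w r) with a | a <;> rcases h2 with b | b <;>
        simp [a, b]

/-- Lifts of swapped commuting root elements commute. -/
theorem commute_lift {W : List (List ℕ)} {r s : ℕ} (hr : r < D.nroots) (hs : s < D.nroots)
    (h : swapOK T W r s = true) (hcom : ∀ t u, Commute (S.X r t) (S.X s u)) {p : ℕ} [CharP F p]
    (hp : Odd p) (hprime : ∀ v : F, ∃ k : ℤ, v = k)
    {E G₁ : Type*} [Group E] [Group G₁] {π : E →* G₁} (hπ : Function.Surjective π)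
    (hc : π.ker ≤ Subgroup.center E) (σ : G →* G₁) {t u : F} {x y : E}
    (hx : π x = σ (S.X r t)) (hy : π y = σ (S.X s u)) : Commute x y := by
  obtain ⟨w, -, h⟩ := of_anyL h
  simp only [Bool.and_eq_true, Nat.beq_eq, ieq_iff] at h
  obtain ⟨hw, h1, h2, h3⟩ := h
  have hw' : ∀ i ∈ w, i < D.rank := fun i hi => by
    simpa only [Nat.blt_eq, hC.l_eq] using of_allL hw i hi
  obtain ⟨hn, hε, -⟩ := nbL_sgn hC hT S hw' hr
  obtain ⟨hn', -, -⟩ := nbL_sgn hC hT S hw' hs
  rw [h1] at hn
  rw [h2, ← h3] at hn'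
  have hz : ∀ {q : ℕ}, q < D.nroots → ∀ (k : ℤ), S.X q (k : F) = S.X q 1 ^ k := by
    intro q hq k
    let φ : Multiplicative F →* G := MonoidHom.mk' (fun v => S.X q v.toAdd) fun v v' => S.add q hq _ _
    show φ (Multiplicative.ofAdd (k : F)) = φ (Multiplicative.ofAdd 1) ^ k
    rw [← map_zpow, ← ofAdd_zsmul, zsmul_one]
  obtain ⟨k, rfl⟩ := hprime t
  obtain ⟨l, rfl⟩ := hprime u
  rw [hz hr, map_zpow] at hx
  rw [hz hs, map_zpow] at hy
  obtain ⟨a', ha'⟩ := hπ (σ (S.X r 1))
  obtain ⟨b', hb'⟩ := hπ (σ (S.X s 1))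
  have hcb : Commute a' b' := by
    refine commute_of_swap hπ hc (n := σ (nbL S w)) hp ?_ ((hcom 1 1).map σ) (ε := sgnT T w r) hε
      ?_ ?_ ha' hb'
    · rw [← map_pow, ← zpow_natCast, ← hz hr, Int.cast_natCast, CharP.cast_eq_zero, X_zero S hr, map_one]
    · rw [← map_inv, ← map_mul, ← map_mul, hn, mul_one, hz hs, map_zpow]
    · rw [← map_inv, ← map_mul, ← map_mul, hn', mul_one, hz hr, map_zpow]
  obtain ⟨z, hz1, rfl⟩ := Lift.exists_central (π := π) (a := x) (a' := a' ^ k) (by rw [hx, map_zpow, ha'])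
  obtain ⟨z', hz2, rfl⟩ := Lift.exists_central (π := π) (a := y) (a' := b' ^ l) (by rw [hy, map_zpow, hb'])
  have cz : ∀ g, Commute z g := fun g => Lift.comm_central hc hz1 g
  have cz' : ∀ g, Commute z' g := fun g => Lift.comm_central hc hz2 g
  exact Commute.mul_left (cz _) (Commute.mul_right (cz' _).symm (hcb.zpow_zpow k l))

end Cfsg.Agent.Chevalley.Cover.Swap
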