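import Cfsg.Agent.Lib.Chevalley.Cover.TorStep
import Cfsg.Agent.Lib.Chevalley.Cover.TorClosed
import Cfsg.Agent.Lib.Chevalley.Cover.TorB2
import Cfsg.Agent.Lib.Chevalley.Cover.Swap
import Cfsg.Agent.Lib.Chevalley.Types.StCerts

/-!
Type B2 over the field with three elements: the long root elements lift as commutators of short ones.
-/

set_option autoImplicit false

open scoped Matrix commutatorElement

namespace Cfsg.Agent.Chevalley.Cover.B2Three

open Cfsg.Lie Cfsg.Agent.Chevalley.Eval Cfsg.Agent.Chevalley.Table Cfsg.Agent.Chevalley.Check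
  Cfsg.Agent.Chevalley.Cert Cfsg.Agent.Chevalley.Group Cfsg.Agent.Chevalley.StUnip
  Cfsg.Agent.Chevalley.Cover Cfsg.Agent.Chevalley.Cover.TorCheck
  Cfsg.Agent.Chevalley.Cover.PartialUnip

/-- Every Cartan integer of the root is even. -/
def IsLong (r : ℕ) : Prop := ∀ i < 2, chevB2.cartan i r % 2 = 0

/-- The short decompositions of the long roots, with their coefficients. -/
def decL : List (ℕ × ℕ × ℕ × ℤ) := [(0, 1, 2, 2), (3, 1, 5, -2), (4, 2, 6, -2), (7, 5, 6, 2)]

/-- The decomposition of a long root. -/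
def dec (l : ℕ) : ℕ × ℕ × ℤ :=
  ((decL.find? fun e => e.1 == l).map fun e => e.2).getD (0, 0, 0)

/-- The words exchanging orthogonal long roots. -/
def words : List (List ℕ) := [[0], [1, 0, 1]]

/-- The table of all pairs. -/
def PairCase (r s : ℕ) : Prop :=
  (IsLong r ∧ IsLong s ∧ chevB2.commTerms r s = []) ∨
  ((IsLong r ↔ ¬ IsLong s) ∧ chevB2.commTerms r s = []) ∨
  (¬ IsLong r ∧ ¬ IsLong s ∧ ∃ l ∈ [0, 3, 4, 7],
    ((dec l).1 = r ∧ (dec l).2.1 = s ∧ chevB2.commTerms r s = [(l, (dec l).2.2, 1, 1)]) ∨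
    ((dec l).1 = s ∧ (dec l).2.1 = r ∧ chevB2.commTerms r s = [(l, -(dec l).2.2, 1, 1)])) ∨
  (IsLong r ↔ ¬ IsLong s)

instance (r : ℕ) : Decidable (IsLong r) := inferInstanceAs (Decidable (∀ i < 2, _))
instance (r s : ℕ) : Decidable (PairCase r s) := inferInstanceAs (Decidable (_ ∨ _))

theorem cases_ok : ∀ r < 8, ∀ s < 8, s ≠ r → s ≠ chevB2.neg r → PairCase r s := by decide +kernel

theorem long_list : ∀ r < 8, IsLong r → r ∈ [0, 3, 4, 7] := by decide +kernel

theorem dec_ok : ∀ l ∈ [0, 3, 4, 7], IsLong l ∧ (dec l).1 < 8 ∧ (dec l).2.1 < 8 ∧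
    ¬ IsLong (dec l).1 ∧ ¬ IsLong (dec l).2.1 ∧ (dec l).2.1 ≠ (dec l).1 ∧
    (dec l).2.1 ≠ chevB2.neg (dec l).1 ∧ (dec l).1 ≠ l ∧ (dec l).2.1 ≠ l ∧
    chevB2.commTerms (dec l).1 (dec l).2.1 = [(l, (dec l).2.2, 1, 1)] ∧
    chevB2.commTerms l (dec l).1 = [] ∧ chevB2.commTerms l (dec l).2.1 = [] ∧
    (dec l).1 ≠ chevB2.neg l ∧ (dec l).2.1 ≠ chevB2.neg l ∧
    (∀ i < 2, (chevB2.cartan i (dec l).1 - chevB2.cartan i (dec l).2.1) % 2 = 0) ∧
    ((dec l).2.2 = 2 ∨ (dec l).2.2 = -2) := by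
  decide +kernel

theorem swap_ok : allR 8 (fun r => allR 8 fun s => Nat.beq s r ||
    (Nat.beq s (Data.B2.tab.neg r) || (Swap.swapOK Data.B2.tab words r s ||
      !(decide (IsLong r) && decide (IsLong s))))) = true := by decide +kernel

theorem order_ok : allL (fun w => allR 8 fun r => allR 8 fun s => Nat.beq s r ||
    (Nat.beq s (Data.B2.tab.neg r) || (!(decide (IsLong r) && !decide (IsLong s)) ||
      (!(posW Data.B2.tab w r && posW Data.B2.tab w s) || (decide (chevB2.commTerms r s = []) ||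
        Nat.blt (wLT Data.B2.tab w r) (wLT Data.B2.tab w s)))))) TorB2.words = true := by
  decide +kernel

theorem mov_ok : allR 8 (fun r => decide (IsLong r) ||
    anyR 4 fun code => !divB 2 (dotV Data.B2.tab 2 code r)) = true := by decide +kernel

variable {F : Type*} [Field F] [CharP F 3]

theorem units_three (hp : ∀ v : F, ∃ k : ℤ, v = k) (u : Fˣ) : u = 1 ∨ u = -1 := by
  obtain ⟨k, hk⟩ := hp u
  obtain ⟨m, hm⟩ : ∃ m : ℤ, k = 3 * m + k % 3 := ⟨k / 3, (Int.mul_ediv_add_emod k 3).symm⟩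
  have h3 : ((3 : ℤ) : F) = 0 := (CharP.intCast_eq_zero_iff F 3 3).2 dvd_rfl
  rcases (by omega : k % 3 = 0 ∨ k % 3 = 1 ∨ k % 3 = 2) with h | h | h <;> rw [h] at hm
  · exact absurd (by rw [hk, hm, add_zero, Int.cast_mul, h3, zero_mul]) u.ne_zero
  · exact Or.inl (Units.ext (by rw [hk, hm, Int.cast_add, Int.cast_mul, h3]; simp))
  · refine Or.inr (Units.ext ?_)
    rw [hk, hm, show (3 : ℤ) * m + 2 = 3 * (m + 1) + -1 by ring, Int.cast_add, Int.cast_mul, h3]
    simp

theorem torChar_long (hp : ∀ v : F, ∃ k : ℤ, v = k) (c : ℕ → Fˣ) {r s : ℕ}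
    (h : ∀ i < 2, (chevB2.cartan i r - chevB2.cartan i s) % 2 = 0) :
    torChar chevB2 c r = torChar chevB2 c s := by
  refine Finset.prod_congr rfl fun i hi => ?_
  obtain ⟨m, hm⟩ := Int.dvd_of_emod_eq_zero (h i (Finset.mem_range.1 hi))
  rw [show chevB2.cartan i r = chevB2.cartan i s + 2 * m by omega, zpow_add, zpow_mul, zpow_two,
    show c i * c i = 1 by rcases units_three hp (c i) with e | e <;> simp [e], one_zpow, mul_one]

theorem torChar_one (hp : ∀ v : F, ∃ k : ℤ, v = k) (c : ℕ → Fˣ) {r : ℕ} (h : IsLong r) :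
    torChar chevB2 c r = 1 := by
  refine Finset.prod_eq_one fun i hi => ?_
  obtain ⟨m, hm⟩ := Int.dvd_of_emod_eq_zero (h i (Finset.mem_range.1 hi))
  rw [hm, zpow_mul, zpow_two,
    show c i * c i = 1 by rcases units_three hp (c i) with e | e <;> simp [e], one_zpow]

theorem exists_moving (hp : ∀ v : F, ∃ k : ℤ, v = k) {r : ℕ} (hr : r < 8) (h : ¬ IsLong r) :
    ∃ c : ℕ → Fˣ, torChar chevB2 c r = -1 ∧ ∀ l, IsLong l → torChar chevB2 c l = 1 := by
  have h1 := of_allR mov_ok r hr
  rw [decide_eq_false h, Bool.false_or] at h1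
  obtain ⟨code, -, h2⟩ := of_anyR h1
  rw [Bool.not_eq_true'] at h2
  have hne : (-1 : F) ≠ 1 := Ring.neg_one_ne_one_of_char_ne_two (by rw [ringChar.eq F 3]; omega)
  have hg : orderOf (-1 : Fˣ) = 2 :=
    orderOf_eq_prime (neg_one_sq) fun e => hne (by simpa using congrArg Units.val e)
  refine ⟨fun i => (-1 : Fˣ) ^ (Nat.div code (Nat.pow 2 i) % 2 : ℕ), (units_three hp _).resolve_left fun e => ?_, fun l hl => torChar_one hp _ hl⟩
  rw [(TorClosed.torChar_code (F := F) Types.B2.certified (-1) hg code r hr).1 e] at h2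
  exact Bool.noConfusion h2

omit [CharP F 3] in
/-- Powers of a commutator commuting with both entries. -/
theorem comm_zpow {M : Type*} [Group M] {a b w : M} (hw : w = ⁅b, a⁆) (ha : Commute w a)
    (hb : Commute w b) (i j : ℤ) : ⁅b ^ i, a ^ j⁆ = w ^ (i * j) := by
  have e1 : b * a ^ j * b⁻¹ = w ^ j * a ^ j := by
    rw [← conj_zpow, show b * a * b⁻¹ = w * a by rw [hw, commutatorElement_def]; group,
      ha.mul_zpow]
  have e2 : a ^ j * b ^ i * (a ^ j)⁻¹ = w ^ (-(j * i)) * b ^ i := by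
    rw [← conj_zpow, show a ^ j * b * (a ^ j)⁻¹ = w ^ (-j) * b by
      rw [zpow_neg, eq_inv_mul_iff_mul_eq, ← mul_assoc, ← mul_assoc, ← e1]; group,
      (hb.zpow_left _).mul_zpow, ← zpow_mul, neg_mul]
  rw [commutatorElement_def, mul_assoc (b ^ i * a ^ j),
    show (b ^ i)⁻¹ * (a ^ j)⁻¹ = (a ^ j * b ^ i)⁻¹ by group,
    show a ^ j * b ^ i = w ^ (-(j * i)) * b ^ i * a ^ j by rw [← e2]; group, mul_inv_rev,
    mul_inv_rev, ← zpow_neg w, neg_neg, mul_comm j i,
    show b ^ i * a ^ j * ((a ^ j)⁻¹ * ((b ^ i)⁻¹ * w ^ (i * j))) = w ^ (i * j) by group]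

section Lifts

variable {M : Type*} [Group M] {Ψ : M →* GL chevB2.Idx F} (hc : Ψ.ker ≤ Subgroup.center M)
  (hG : chevB2.group F ≤ Ψ.range) (hp : ∀ v : F, ∃ k : ℤ, v = k)

local notation "hC" => Types.B2.certified

include hp in
omit [CharP F 3] in
theorem xg_zpow (r : ℕ) (k : ℤ) : xg hC r (k : F) = xg hC r (1 : F) ^ k := by
  let φ : Multiplicative F →* GL chevB2.Idx F :=
    MonoidHom.mk' (fun v => xg hC r v.toAdd) fun v v' => xg_add hC r _ _
  show φ (Multiplicative.ofAdd (k : F)) = φ (Multiplicative.ofAdd 1) ^ k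
  rw [← map_zpow, ← ofAdd_zsmul, zsmul_one]

include hc hG hp in
theorem exists_family : ∃ y : ℕ → M, ∀ r < 8, Ψ (y r) = xg hC r (1 : F) ∧ y r ^ 3 = 1 ∧
    (∀ (c : ℕ → Fˣ) (g : M), Ψ g = tor chevB2 c → ∀ e : ℤ, (e : F) = (torChar chevB2 c r : F) →
      g * y r * g⁻¹ = y r ^ e) ∧
    (IsLong r → y r = ⁅y (dec r).2.1, y (dec r).1⁆ ^ (-(dec r).2.2) ∧
      Commute ⁅y (dec r).2.1, y (dec r).1⁆ (y (dec r).1) ∧
      Commute ⁅y (dec r).2.1, y (dec r).1⁆ (y (dec r).2.1)) := by
  classical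
  have h3 : ∀ {e e' : ℤ} {z : M}, z ^ 3 = 1 → (e : F) = (e' : F) → z ^ e = z ^ e' := by
    intro e e' z hz he
    obtain ⟨m, hm⟩ := (CharP.intCast_eq_zero_iff F 3 (e - e')).1 (by rw [Int.cast_sub, he, sub_self])
    rw [show e = e' + ((3 : ℕ) : ℤ) * m by omega, zpow_add, zpow_mul, zpow_natCast, hz, one_zpow,
      mul_one]
  have hm2 : (-2 : F) = 1 := by
    have : ((3 : ℕ) : F) = 0 := CharP.cast_eq_zero F 3
    push_cast at this
    linear_combination -this
  -- short roots
  have short : ∀ r, r < 8 → ¬ IsLong r → ∃ y : M, Ψ y = xg hC r (1 : F) ∧ y ^ 3 = 1 ∧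
      ∀ (c : ℕ → Fˣ) (g : M), Ψ g = tor chevB2 c → ∀ e : ℤ, (e : F) = (torChar chevB2 c r : F) →
        g * y * g⁻¹ = y ^ e := by
    intro r hr hs
    obtain ⟨c0, hc0, -⟩ := exists_moving hp hr hs
    obtain ⟨h, hh⟩ := hG (Borel.H_le_group hC (tor_mem_H hC c0))
    obtain ⟨x, hx⟩ := hG (Borel.xg_mem_group hC (F := F) hr 1)
    have hconjh : ∀ v : F, tor chevB2 c0 * xg hC r v * (tor chevB2 c0)⁻¹ = xg hC r (-v) := fun v => by
      rw [tor_conj_x hC c0 r v hr, hc0, Units.val_neg, Units.val_one, neg_one_mul]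
    obtain ⟨z, hz1, hz⟩ := Lift.exists_central (π := Ψ) (a := h * x * h⁻¹) (a' := x⁻¹) (by
      rw [map_mul, map_mul, map_inv, map_inv, hh, hx, hconjh, xg_inv hC])
    have cz : ∀ g, Commute z g := fun g => Lift.comm_central hc hz1 g
    obtain ⟨y, hy⟩ : ∃ y, y = ⁅h, x⁆ := ⟨_, rfl⟩
    have hyz : y = z * x⁻¹ * x⁻¹ := by rw [hy, commutatorElement_def, hz]
    have hyΨ : Ψ y = xg hC r (1 : F) := by
      rw [hyz, map_mul, map_mul, map_inv, hz1, one_mul, hx, xg_inv hC, ← xg_add hC]
      congr 1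
      linear_combination hm2
    have cyx : Commute y x := by
      rw [hyz]
      exact ((cz x).mul_left (Commute.refl x).inv_left).mul_left (Commute.refl x).inv_left
    have hy3 : y ^ 3 = 1 := by
      have hx3 : Ψ (x ^ 3) = 1 := by
        rw [map_pow, hx, ← zpow_natCast, ← xg_zpow hp, Int.cast_natCast, CharP.cast_eq_zero,
          xg_zero hC]
      have hz3 : x ^ 3 = z ^ 3 * (x⁻¹) ^ 3 := by
        rw [← (cz _).mul_pow, ← hz, conj_pow]
        exact (TorLift.conj_ker hc hx3 h).symm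
      rw [hyz, ((cz x).inv_right.mul_left (Commute.refl x⁻¹)).mul_pow, (cz _).mul_pow, ← hz3,
        inv_pow, mul_inv_cancel]
    refine ⟨y, hyΨ, hy3, fun c g hg e he => ?_⟩
    have hgy : g * y * g⁻¹ = ⁅g * h * g⁻¹, g * x * g⁻¹⁆ := by
      rw [hy]; simp only [commutatorElement_def]; group
    have hth : Ψ (g * h * g⁻¹) = Ψ h := by
      rw [map_mul, map_mul, map_inv, hg, hh, mul_inv_eq_iff_eq_mul, tor_mul, tor_mul, mul_comm]
    have htx : Ψ (g * x * g⁻¹) = xg hC r (torChar chevB2 c r : F) := by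
      rw [map_mul, map_mul, map_inv, hg, hx, tor_conj_x hC c r _ hr, mul_one]
    rcases units_three hp (torChar chevB2 c r) with h1 | h1 <;> rw [h1] at he htx
    · rw [hgy, Lift.comm_congr hc hth (b' := x) (by rw [htx, hx, Units.val_one]), ← hy,
        h3 hy3 (e' := 1) (by rw [he, Units.val_one, Int.cast_one]), zpow_one]
    · rw [hgy, Lift.comm_congr hc hth (b' := x⁻¹) (by
          rw [htx, map_inv, hx, xg_inv hC, Units.val_neg, Units.val_one]),
        h3 hy3 (e' := -1) (by rw [he, Units.val_neg, Units.val_one, Int.cast_neg, Int.cast_one]),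
        zpow_neg_one, show ⁅h, x⁻¹⁆ = x⁻¹ * y⁻¹ * x by
          rw [hy]; simp only [commutatorElement_def]; group,
        ← (cyx.inv_inv).eq, mul_assoc, inv_mul_cancel, mul_one]
  choose ys hysΨ hys3 hysc using short
  obtain ⟨y0, hy0def⟩ : ∃ y0 : ℕ → M,
      y0 = fun r => if h : r < 8 ∧ ¬ IsLong r then ys r h.1 h.2 else 1 := ⟨_, rfl⟩
  have hy0 : ∀ r (hr : r < 8) (hs : ¬ IsLong r), y0 r = ys r hr hs := fun r hr hs => by
    rw [hy0def]; simp only; rw [dif_pos ⟨hr, hs⟩]
  refine ⟨fun r => if IsLong r then ⁅y0 (dec r).2.1, y0 (dec r).1⁆ ^ (-(dec r).2.2) else y0 r,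
    fun r hr => ?_⟩
  by_cases hl : IsLong r
  swap
  · simp only [if_neg hl, hy0 r hr hl]
    exact ⟨hysΨ r hr hl, hys3 r hr hl, hysc r hr hl, fun h => absurd h hl⟩
  obtain ⟨-, ha, hb, hsa, hsb, hba, hbn, hane, hbne, hterm, hla, hlb, han, hbnn, hpar, hC2⟩ :=
    dec_ok r (long_list r hr hl)
  simp only [if_pos hl, if_neg hsa, if_neg hsb, hy0 _ ha hsa, hy0 _ hb hsb]
  generalize hadef : (dec r).1 = a at *
  generalize hbdef : (dec r).2.1 = b at *
  generalize hCdef : (dec r).2.2 = C at *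
  obtain ⟨ω, hω⟩ : ∃ ω, ω = ⁅ys b hb hsb, ys a ha hsa⁆ := ⟨_, rfl⟩
  rw [← hω]
  have hzero : ∀ {k : ℕ}, k ≠ r → k ≠ chevB2.neg r → k < 8 → chevB2.commTerms r k = [] → ∀ t u : F,
      Commute (xg hC r t) (xg hC k u) := by
    intro k h1 h2 hk h t u
    have := Unip.xg_comm hC hr hk h1 h2 t u
    rw [ChevalleyDatum.commWord, h, List.map_nil, List.map_nil, List.prod_nil, mul_one] at this
    exact this.symm
  have hΨω : Ψ ω = xg hC r (-(C : F)) := by
    rw [hω, map_commutatorElement, hysΨ, hysΨ, commutatorElement_def]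
    have := Unip.xg_comm hC ha hb hba hbn (1 : F) 1
    rw [ChevalleyDatum.commWord, hterm] at this
    simp only [List.map_cons, List.map_nil, List.prod_cons, List.prod_nil, mul_one, pow_one,
      mul_neg_one] at this
    rw [this, mul_assoc (xg hC a (1 : F)), ← (hzero hbne hbnn hb hlb _ 1).eq, ← mul_assoc,
      ← (hzero hane han ha hla _ 1).eq]
    group
  have hcomω : ∀ {k : ℕ} (hk : k < 8) (hks : ¬ IsLong k), k ≠ r → k ≠ chevB2.neg r →
      chevB2.commTerms r k = [] → Commute ω (ys k hk hks) := by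
    intro k hk hks h1 h2 h
    obtain ⟨c, hc1, hc2⟩ := exists_moving hp hk hks
    refine TorLift.com_lift hC hc hG hr hk (hzero h1 h2 hk h) (hc2 r hl) ?_ hΨω (hysΨ k hk hks)
    rw [hc1]
    intro e
    exact Ring.neg_one_ne_one_of_char_ne_two (R := F) (by rw [ringChar.eq F 3]; omega)
      (by simpa using congrArg Units.val e)
  have cωa := hcomω ha hsa hane han hla
  have cωb := hcomω hb hsb hbne hbnn hlb
  have hω3 : ω ^ 3 = 1 := by
    rw [← zpow_natCast, show ((3 : ℕ) : ℤ) = 3 * 1 from rfl, ← comm_zpow hω cωa cωb, zpow_one,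
      show (3 : ℤ) = ((3 : ℕ) : ℤ) from rfl, zpow_natCast, hys3, commutatorElement_one_left]
  refine ⟨?_, ?_, fun c g hg e he => ?_, fun _ => ⟨trivial, cωa, cωb⟩⟩
  · rw [map_zpow, hΨω]
    have : (-(C : F)) = ((-C : ℤ) : F) := by push_cast; ring
    rw [this, xg_zpow hp, ← zpow_mul, ← xg_zpow hp, Int.cast_mul]
    congr 1
    rcases hC2 with e | e <;> rw [e] <;> push_cast <;> linear_combination (-hm2 * (1 : F)) + 0
  · rw [← zpow_natCast, ← zpow_mul, mul_comm, zpow_mul, zpow_natCast, hω3, one_zpow]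
  · rw [← zpow_mul, ← conj_zpow, mul_comm, zpow_mul]
    congr 1
    have hab : torChar chevB2 c a = torChar chevB2 c b := torChar_long hp c hpar
    obtain ⟨ea, hea⟩ := hp (torChar chevB2 c a : F)
    rw [hω, show g * ⁅ys b hb hsb, ys a ha hsa⁆ * g⁻¹ = ⁅g * ys b hb hsb * g⁻¹, g * ys a ha hsa * g⁻¹⁆ by
      simp only [commutatorElement_def]; group, hysc b hb hsb c g hg ea (by rw [← hab, hea]),
      hysc a ha hsa c g hg ea hea.symm, comm_zpow hω cωa cωb, ← hω]
    refine h3 hω3 ?_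
    rw [he, torChar_one hp c hl, Int.cast_mul, ← hea, ← Units.val_mul,
      show torChar chevB2 c a * torChar chevB2 c a = 1 by
        rcases units_three hp (torChar chevB2 c a) with h | h <;> simp [h]]

include hc hG hp in
theorem exists_lift : ∃ X : ℕ → F → M, Sys.Rels chevB2 X ∧
    ∀ r < 8, ∀ t, Ψ (X r t) = xg hC r t := by
  classical
  obtain ⟨y, hy⟩ := exists_family hc hG hp
  choose ν hν using hp
  have h3 : ∀ {r : ℕ}, r < 8 → ∀ {e e' : ℤ}, (e : F) = (e' : F) → y r ^ e = y r ^ e' := by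
    intro r hr e e' he
    obtain ⟨m, hm⟩ := (CharP.intCast_eq_zero_iff F 3 (e - e')).1 (by rw [Int.cast_sub, he, sub_self])
    rw [show e = e' + ((3 : ℕ) : ℤ) * m by omega, zpow_add, zpow_mul, zpow_natCast, (hy r hr).2.1,
      one_zpow, mul_one]
  have hp : ∀ v : F, ∃ k : ℤ, v = k := fun v => ⟨ν v, hν v⟩
  obtain ⟨Y, hYdef⟩ : ∃ Y : ℕ → F → M, Y = fun r t => y r ^ ν t := ⟨_, rfl⟩
  have hYe : ∀ r t, Y r t = y r ^ ν t := fun r t => by rw [hYdef]
  have hY : ∀ r < chevB2.nroots, ∀ t, Ψ (Y r t) = xg hC r t := fun r hr t => by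
    rw [hYe, map_zpow, (hy r hr).1, ← xg_zpow hp, ← hν]
  have hadd : ∀ r < chevB2.nroots, ∀ t u, Y r (t + u) = Y r t * Y r u := fun r hr t u => by
    rw [hYe, hYe, hYe, ← zpow_add]
    exact h3 hr (by rw [Int.cast_add, ← hν, ← hν, ← hν])
  have hconj : ∀ r < chevB2.nroots, ∀ (c : ℕ → Fˣ) (g : M), Ψ g = tor chevB2 c → ∀ t,
      g * Y r t * g⁻¹ = Y r ((torChar chevB2 c r : F) * t) := fun r hr c g hg t => by
    rw [hYe, hYe, ← conj_zpow, (hy r hr).2.2.1 c g hg (ν (torChar chevB2 c r : F)) (hν _).symm,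
      ← zpow_mul]
    exact h3 hr (by rw [Int.cast_mul, ← hν, ← hν, ← hν])
  have hne1 : (-1 : Fˣ) ≠ 1 := fun e =>
    Ring.neg_one_ne_one_of_char_ne_two (R := F) (by rw [ringChar.eq F 3]; omega)
      (by simpa using congrArg Units.val e)
  have hnilW : ∀ {r s : ℕ}, chevB2.commTerms r s = [] → ∀ t u : F,
      ((chevB2.commWord F r s t u).map fun e => Y e.1 e.2).prod = 1 := fun {r s} h t u => by
    rw [ChevalleyDatum.commWord, h, List.map_nil, List.map_nil, List.prod_nil]
  have hcomG : ∀ {r s : ℕ}, r < 8 → s < 8 → s ≠ r → s ≠ chevB2.neg r →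
      chevB2.commTerms r s = [] → ∀ t u : F, Commute (xg hC r t) (xg hC s u) := by
    intro r s hr hs h1 h2 h t u
    have := Unip.xg_comm hC hr hs h1 h2 t u
    rw [ChevalleyDatum.commWord, h, List.map_nil, List.map_nil, List.prod_nil, mul_one] at this
    exact this.symm
  have hn' : ∀ {r s : ℕ}, r < 8 → s < 8 → s ≠ chevB2.neg r → r ≠ chevB2.neg s :=
    fun {r s} _ hs h e => h (by rw [e, Certified.neg_neg hC hs])
  -- pairs not needing the induction
  have direct : ∀ r, r < 8 → ∀ s, s < 8 → s ≠ r → s ≠ chevB2.neg r →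
      (((IsLong r ↔ ¬ IsLong s) → chevB2.commTerms r s = []) → ∀ t u : F, Y s u * Y r t =
        Y r t * Y s u * ((chevB2.commWord F r s t u).map fun e => Y e.1 e.2).prod) := by
    intro r hr s hs hne hnn hmix t u
    rcases cases_ok r hr s hs hne hnn with ⟨hl, hl', h⟩ | ⟨hm, h⟩ | ⟨hsr, hss, l, hl, h⟩ | hm
    · rw [hnilW h, mul_one]
      have hsw := of_allR (of_allR swap_ok r hr) s hs
      simp only [Bool.or_eq_true, Nat.beq_eq, hne, false_or, Certified.neg_eq hC hr, hnn,
        decide_eq_true hl, decide_eq_true hl', Bool.and_self, Bool.not_true, Bool.false_eq_true,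
        or_false] at hsw
      have hle : ∀ x, Sys.th hC x ∈ Ψ.range := fun x =>
        hG (StKernel.th_range (Sys.scSys (F := F) hC) ▸ ⟨x, rfl⟩)
      have hX : ∀ (q : ℕ), q < 8 → ∀ v : F, Ψ.rangeRestrict (Y q v) =
          (Sys.th hC).codRestrict Ψ.range hle (chevB2.scGen F q v) := fun q hq v => Subtype.ext (by
        show Ψ (Y q v) = Sys.th hC (chevB2.scGen F q v)
        rw [hY q hq, Sys.th_gen hC q hq])
      refine (Swap.commute_lift hC ⟨⟨_, Types.CoefB2.coef_ok⟩, ⟨_, Types.StCerts.conj_B2⟩⟩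
        (Sys.scSys (F := F) hC) hr hs hsw (fun t u => ?_) (p := 3) ⟨1, rfl⟩ hp
        Ψ.rangeRestrict_surjective (by rw [MonoidHom.ker_rangeRestrict]; exact hc)
        ((Sys.th hC).codRestrict Ψ.range hle) (hX r hr t) (hX s hs u)).eq.symm
      show Commute (chevB2.scGen F r t) (chevB2.scGen F s u)
      have e := Sys.scGen_comm hr hs hne hnn t u
      rw [ChevalleyDatum.commWord, h, List.map_nil, List.map_nil, List.prod_nil, mul_one] at e
      exact e.symm
    · rw [hnilW h, mul_one]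
      by_cases hl : IsLong r
      · obtain ⟨c, hc1, hc2⟩ := exists_moving hp hs (hm.1 hl)
        exact (TorLift.com_lift hC hc hG hr hs (hcomG hr hs hne hnn h) (hc2 r hl)
          (by rw [hc1]; exact hne1) (hY r hr t) (hY s hs u)).eq.symm
      · have hls : IsLong s := not_not.1 fun h' => hl (hm.2 h')
        obtain ⟨c, hc1, hc2⟩ := exists_moving hp hr hl
        exact (TorLift.com_lift hC hc hG hs hr (fun t u => (hcomG hr hs hne hnn h u t).symm)
          (hc2 s hls) (by rw [hc1]; exact hne1) (hY s hs u) (hY r hr t)).eq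
    · obtain ⟨hll, -, -, -, -, -, -, -, -, -, -, -, -, -, -, hC2⟩ := dec_ok l hl
      have hl8 : l < 8 := by
        simp only [List.mem_cons, List.not_mem_nil, or_false] at hl; omega
      obtain ⟨hyl, cωa, cωb⟩ := (hy l hl8).2.2.2 hll
      have hC2' : ((dec l).2.2 : F) * ((dec l).2.2 : F) = 1 := by
        have h30 : ((3 : ℕ) : F) = 0 := CharP.cast_eq_zero F 3
        push_cast at h30
        rcases hC2 with e | e <;> rw [e] <;> push_cast <;> linear_combination h30
      have base : ∀ v w : F, ⁅Y (dec l).2.1 w, Y (dec l).1 v⁆ = Y l (-((dec l).2.2 : F) * v * w) := by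
        intro v w
        rw [hYe, hYe, hYe, comm_zpow rfl cωa cωb]
        rw [hyl, ← zpow_mul]
        have hω3 : ⁅y (dec l).2.1, y (dec l).1⁆ ^ 3 = 1 := by
          have := (hy l hl8).2.1
          rw [hyl] at this
          have e : ⁅y (dec l).2.1, y (dec l).1⁆ =
              (⁅y (dec l).2.1, y (dec l).1⁆ ^ (-(dec l).2.2)) ^ (-(dec l).2.2) *
                (⁅y (dec l).2.1, y (dec l).1⁆ ^ (3 : ℤ)) ^ (-1 : ℤ) := by
            rw [← zpow_mul, ← zpow_mul, ← zpow_add]
            rcases hC2 with e | e <;> rw [e] <;> norm_num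
          have hb3 : y (dec l).2.1 ^ 3 = 1 := (hy _ (dec_ok l hl).2.2.1).2.1
          rw [← zpow_natCast, show ((3 : ℕ) : ℤ) = 3 * 1 from rfl, ← comm_zpow rfl cωa cωb, zpow_one,
            show (3 : ℤ) = ((3 : ℕ) : ℤ) from rfl, zpow_natCast, hb3, commutatorElement_one_left]
        obtain ⟨m, hm⟩ := (CharP.intCast_eq_zero_iff F 3
          (ν w * ν v - -(dec l).2.2 * ν (-((dec l).2.2 : F) * v * w))).1 (by
            push_cast
            rw [← hν, ← hν, ← hν]
            linear_combination -(v * w) * hC2')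
        rw [show ν w * ν v = -(dec l).2.2 * ν (-((dec l).2.2 : F) * v * w) + ((3 : ℕ) : ℤ) * m by omega,
          zpow_add, zpow_mul _ ((3 : ℕ) : ℤ), zpow_natCast, hω3, one_zpow, mul_one]
      have comms : ∀ v w, Commute (Y l v) (Y (dec l).1 w) ∧ Commute (Y l v) (Y (dec l).2.1 w) := fun v w => by
        rw [hYe, hyl, ← zpow_mul]
        exact ⟨by rw [hYe]; exact cωa.zpow_zpow _ _, by rw [hYe]; exact cωb.zpow_zpow _ _⟩
      rcases h with ⟨rfl, rfl, h⟩ | ⟨rfl, rfl, h⟩
      · rw [ChevalleyDatum.commWord, h]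
        simp only [List.map_cons, List.map_nil, List.prod_cons, List.prod_nil, mul_one, pow_one]
        have b := base t u
        rw [commutatorElement_def] at b
        rw [show ((dec l).2.2 : F) * -t * u = -((dec l).2.2 : F) * t * u by ring, mul_assoc (Y (dec l).1 t),
          ← (comms _ u).2.eq, ← mul_assoc, ← (comms _ t).1.eq, ← b]
        group
      · rw [ChevalleyDatum.commWord, h]
        simp only [List.map_cons, List.map_nil, List.prod_cons, List.prod_nil, mul_one, pow_one]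
        have b := base u t
        rw [commutatorElement_def] at b
        have hl0 : Y l (-((dec l).2.2 : F) * u * t) * Y l ((-(dec l).2.2 : ℤ) * -t * u) = 1 := by
          rw [← hadd l hl8]
          have : -((dec l).2.2 : F) * u * t + ((-(dec l).2.2 : ℤ) : F) * -t * u = 0 := by push_cast; ring
          rw [this]
          exact PartialUnip.Y_zero hadd hl8
        rw [← b] at hl0
        rw [mul_assoc (Y (dec l).2.1 t), ← (comms _ u).1.eq, ← mul_assoc, ← (comms _ t).2.eq,
          ← inv_eq_of_mul_eq_one_right hl0]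
        group
    · rw [hnilW (hmix hm), mul_one]
      by_cases hl : IsLong r
      · obtain ⟨c, hc1, hc2⟩ := exists_moving hp hs (hm.1 hl)
        exact (TorLift.com_lift hC hc hG hr hs (hcomG hr hs hne hnn (hmix hm)) (hc2 r hl)
          (by rw [hc1]; exact hne1) (hY r hr t) (hY s hs u)).eq.symm
      · have hls : IsLong s := not_not.1 fun h' => hl (hm.2 h')
        obtain ⟨c, hc1, hc2⟩ := exists_moving hp hr hl
        exact (TorLift.com_lift hC hc hG hs hr (fun t u => (hcomG hr hs hne hnn (hmix hm) u t).symm)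
          (hc2 s hls) (by rw [hc1]; exact hne1) (hY s hs u) (hY r hr t)).eq
  have hwords : ∀ w ∈ TorB2.words, ∀ i ∈ w, i < 2 := by decide +kernel
  have known : ∀ w ∈ TorB2.words, ∀ k b, 8 ≤ b + k → Known chevB2 Data.B2.tab Y w b := by
    intro w hwW k
    have hw := hwords w hwW
    induction k with
    | zero =>
      intro b hb r hr s hs _ _ _ har
      have := wL_lt hC hw hr
      change _ < 8 at this
      omega
    | succ k ih =>
      intro b hbk r hr s hs hne hpr hps har has t u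
      have hnn : s ≠ chevB2.neg r := by
        rintro rfl
        rw [gW, wL_neg hC hw hr, Certified.phi_neg hC (wL_lt hC hw hr)] at hps
        rw [gW] at hpr
        omega
      by_cases hm : IsLong r ↔ ¬ IsLong s
      swap
      · exact direct r hr s hs hne hnn (fun h => absurd h hm) t u
      have hord : ∀ {p q : ℕ}, p < 8 → q < 8 → q ≠ p → q ≠ chevB2.neg p → IsLong p → ¬ IsLong q →
          0 < gW chevB2 Data.B2.tab w p → 0 < gW chevB2 Data.B2.tab w q →
          chevB2.commTerms p q = [] ∨ wL chevB2 w p < wL chevB2 w q := by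
        intro p q hp' hq h1 h2 hlp hlq g1 g2
        have h := of_allR (of_allR (of_allL order_ok w hwW) p hp') q hq
        have e1 : posW Data.B2.tab w p = true := by
          rw [posW, iblt_iff, TorClosed.wLT_eq hC hw hp']; exact g1
        have e2 : posW Data.B2.tab w q = true := by
          rw [posW, iblt_iff, TorClosed.wLT_eq hC hw hq]; exact g2
        simp only [Bool.or_eq_true, Nat.beq_eq, h1, false_or, Certified.neg_eq hC hp', h2,
          decide_eq_true hlp, decide_eq_false hlq, e1, e2, Bool.and_self, Bool.not_true,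
          Bool.not_false, Bool.false_eq_true, decide_eq_true_eq, Nat.blt_eq,
          TorClosed.wLT_eq hC hw hp', TorClosed.wLT_eq hC hw hq] at h
        exact h
      by_cases hl : IsLong r
      · rcases hord hr hs hne hnn hl (hm.1 hl) hpr hps with h | h
        · exact direct r hr s hs hne hnn (fun _ => h) t u
        · obtain ⟨c, hc1, hc2⟩ := exists_moving hp hs (hm.1 hl)
          exact (TorStep.step hC hc hG hY hadd hconj hw hr hs hne hpr hps h (hc2 r hl)
            (by rw [hc1]; exact hne1) (ih _ (by omega)) t u).1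
      · have hls : IsLong s := not_not.1 fun h' => hl (hm.2 h')
        rcases hord hs hr (Ne.symm hne) (hn' hr hs hnn) hls hl hps hpr with h | h
        · have := direct s hs r hr (Ne.symm hne) (hn' hr hs hnn) (fun _ => h) u t
          rw [hnilW h, mul_one] at this
          have hrs : chevB2.commTerms r s = [] := by
            have key : ∀ p < 8, ∀ q < 8, chevB2.commTerms p q = [] → chevB2.commTerms q p = [] := by
              decide +kernel
            exact key s hs r hr h
          rw [hnilW hrs, mul_one]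
          exact this.symm
        · obtain ⟨c, hc1, hc2⟩ := exists_moving hp hr hl
          exact (TorStep.step hC hc hG hY hadd hconj hw hs hr (Ne.symm hne) hps hpr h (hc2 s hls)
            (by rw [hc1]; exact hne1) (ih _ (by omega)) u t).2
  refine ⟨Y, ⟨hadd, fun r hr s hs hne hnn t u => ?_⟩, hY⟩
  have hchk := TorB2.ok
  simp only [torChk, Bool.and_eq_true] at hchk
  have h := of_allR (of_allR hchk.2.2 r hr) s hs
  simp only [Bool.or_eq_true, Nat.beq_eq, Certified.neg_eq hC hr, hne, hnn, false_or,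
    Bool.and_eq_true] at h
  obtain ⟨w, hwW, hpos⟩ := of_anyL h.1
  rw [Bool.and_eq_true] at hpos
  exact known w hwW 8 0 (by omega) r hr s hs hne
    (TorClosed.posW_iff hC (hwords w hwW) hr hpos.1) (TorClosed.posW_iff hC (hwords w hwW) hs hpos.2)
    (Nat.zero_le _) (Nat.zero_le _) t u

end Lifts

end Cfsg.Agent.Chevalley.Cover.B2Three
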