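import Cfsg.Agent.Lib.Chevalley.Cover.SLCheck
import Cfsg.Agent.Lib.Chevalley.Data.E7

/-!
The closedness check for E7.
-/

set_option autoImplicit false
set_option maxHeartbeats 0

namespace Cfsg.Agent.Chevalley.Cover.SLE7

/-- Every pair passes. -/
theorem ok : SLCheck.slChk Cfsg.Agent.Chevalley.Data.E7.tab (fun _ _ => false) = true := by
  decide +kernel

end Cfsg.Agent.Chevalley.Cover.SLE7
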