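import Cfsg.Agent.Lib.Chevalley.Cover.MinCenter
import Cfsg.Agent.Lib.Chevalley.Cover.RepE7
import Cfsg.Agent.Lib.Chevalley.Cover.SLE7
import Cfsg.Agent.Lib.Chevalley.Types.OrderE7

/-!
The centre of the cover of type E7.
-/

set_option autoImplicit false

namespace Cfsg.Agent.Chevalley.Cover.CenterE7

open Cfsg.Lie

theorem center_card {F : Type*} [Field F] [Fintype F] :
    Nat.card (Subgroup.center (chevE7.SteinbergCover F)) = Nat.gcd 2 (Fintype.card F - 1) := by
  obtain ⟨ρ, hρ⟩ := Rep.exists_rep (F := F) Types.E7.certified SLE7.ok RepE7.rel_ok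
  refine MinCenter.center_card Types.E7.certified RepE7.rel_ok hρ RepE7.top_ok (by decide)
    ⟨⟨_, Types.CoefE7.coef_ok⟩, ⟨_, Types.StCerts.conj_E7⟩⟩ K2.sym_E7 (by decide)
    (by norm_num : Nat.Prime 2) ?_ ![0,1,0,0,1,0,1] (by decide +kernel) rfl
  have h := TorusCard.card_ker_matHom (G := Fˣ) Types.OrderE7.hP Types.OrderE7.hQ Types.OrderE7.hQ'
    Types.OrderE7.hdiag
  rw [show Nat.card Fˣ = Fintype.card F - 1 by rw [Nat.card_units, Nat.card_eq_fintype_card]] at h
  refine h.trans ?_
  simp [Fin.prod_univ_succ, Types.OrderE7.ed, Nat.gcd_comm]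

theorem isCyclic_center {F : Type*} [Field F] [Fintype F] :
    IsCyclic (Subgroup.center (chevE7.SteinbergCover F)) := by
  rcases (Nat.dvd_prime (by norm_num : Nat.Prime 2)).1
      (Nat.gcd_dvd_left 2 (Fintype.card F - 1)) with h | h
  · haveI : Subsingleton (Subgroup.center (chevE7.SteinbergCover F)) :=
      (Nat.card_eq_one_iff_unique.1 (center_card.trans h)).1
    exact isCyclic_of_subsingleton
  · haveI := Fact.mk (by norm_num : Nat.Prime 2)
    exact isCyclic_of_prime_card (center_card.trans h)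

end Cfsg.Agent.Chevalley.Cover.CenterE7
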