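import Cfsg.Agent.Lib.Chevalley.Cover.SLClosed
import Cfsg.Agent.Lib.Chevalley.Cover.Swap
import Cfsg.Agent.Lib.Chevalley.Types.StCerts

/-!
Closedness of the cover of type D4 over the field with three elements.
-/

set_option autoImplicit false
set_option maxHeartbeats 0

namespace Cfsg.Agent.Chevalley.Cover.SLD4

open Cfsg.Lie Cfsg.Agent.Chevalley.Cert Cfsg.Agent.Chevalley.Cover

/-- Words exchanging the residual pairs. -/
def words : List (List ℕ) := [[2, 0], [3, 0], [3, 2], [1, 2, 0, 1, 3, 1, 2, 0, 1, 0],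
  [1, 2, 0, 1, 3, 0, 1, 2, 0, 1], [3, 1, 2, 0, 1, 3, 1, 2, 0, 1], [1, 2, 0, 1], [1, 3, 0, 1],
  [1, 3, 2, 1], [2, 0, 1, 3, 1, 2, 1, 0], [2, 0, 1, 3, 0, 1, 2, 0], [3, 1, 2, 0, 1, 3, 2, 0]]

theorem ok : SLCheck.slChk Cfsg.Agent.Chevalley.Data.D4.tab
    (fun r s => Swap.swapOK Cfsg.Agent.Chevalley.Data.D4.tab words r s) = true := by
  decide +kernel

/-- Lifting over the field with three elements. -/
theorem exists_hom_lift {F : Type*} [Field F] [CharP F 3] (hprime : ∀ v : F, ∃ k : ℤ, v = k)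
    {E G₁ : Type*} [Group E] [Group G₁] {π : E →* G₁} (hπ : Function.Surjective π)
    (hc : π.ker ≤ Subgroup.center E) (σ : chevD4.SteinbergCover F →* G₁) :
    ∃ τ : chevD4.SteinbergCover F →* E, π.comp τ = σ := by
  refine SLClosed.exists_hom_lift Types.D4.certified ok hπ hc σ fun r s h hres t u x y hx hy => ?_
  have hcom : ∀ t u, Commute (chevD4.scGen F r t) (chevD4.scGen F s u) := fun t u => by
    by_cases hsr : s = r
    · subst hsr
      show _ = _
      rw [← Sys.scGen_add h.1, ← Sys.scGen_add h.1, add_comm]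
    · have e := Sys.scGen_comm h.1 h.2.1 hsr h.2.2.1 t u
      rw [SLClosed.commWord_nil Types.D4.certified ok h.1 h.2.1 h.2.2.1 h.2.2.2, List.map_nil,
        List.prod_nil, mul_one] at e
      exact e.symm
  exact Swap.commute_lift Types.D4.certified
    ⟨⟨_, Types.CoefD4.coef_ok⟩, ⟨_, Types.StCerts.conj_D4⟩⟩ (Sys.scSys (F := F) Types.D4.certified)
    h.1 h.2.1 hres hcom (p := 3) ⟨1, rfl⟩ hprime hπ hc σ hx hy

end Cfsg.Agent.Chevalley.Cover.SLD4
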