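import Cfsg.Agent.Lib.Chevalley.Cover.SmallFields
import Cfsg.Agent.Lib.Chevalley.Cover.B2Three
import Cfsg.Agent.Lib.Chevalley.Cover.SLD4

/-!
Central closedness of the covers of types B2 and D4 over every finite field but the one with two
elements.
-/

set_option autoImplicit false

namespace Cfsg.Agent.Chevalley.Cover.Exceptional

open Cfsg.Lie Cfsg.Agent.Chevalley.Table Cfsg.Agent.Chevalley.Cert Cfsg.Agent.Chevalley.StKernel
  Cfsg.Agent.Chevalley.Cover

theorem int_surj {F : Type*} [Field F] [Fintype F] [CharP F 3] (h : Fintype.card F = 3) :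
    ∀ v : F, ∃ k : ℤ, v = k := by
  intro v
  haveI : NeZero 3 := ⟨by omega⟩
  obtain ⟨y, rfl⟩ := ((Fintype.bijective_iff_injective_and_card (ZMod.castHom dvd_rfl F)).2
    ⟨ZMod.castHom_injective F, by rw [ZMod.card, h]⟩).2 v
  exact ⟨y.val, by simp [ZMod.natCast_val]⟩

theorem lift_B2 {F : Type*} [Field F] [Fintype F] (hF : 3 ≤ Fintype.card F) {E G₁ : Type*}
    [Group E] [Group G₁] {π : E →* G₁} (hπ : Function.Surjective π) (hc : π.ker ≤ Subgroup.center E)
    (σ : chevB2.SteinbergCover F →* G₁) : ∃ τ : chevB2.SteinbergCover F →* E, π.comp τ = σ := by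
  rcases Nat.lt_or_ge 4 (Fintype.card F) with h | h
  · exact Universal.exists_hom_lift_all (SmallFields.big_of_card h) (by simp) hπ hc σ
  rcases Nat.eq_or_lt_of_le h with h4 | h4
  · exact SmallFields.lift_four (by simp) h4 hπ hc σ
  have h3 : Fintype.card F = 3 := by omega
  haveI := SmallFields.charP_three h3
  have hperf := PerfectCover.perfect_all (F := F) (D := chevB2) (by simp) fun _ => by
    have hne : (-1 : F) ≠ 1 := Ring.neg_one_ne_one_of_char_ne_two (by rw [ringChar.eq F 3]; omega)
    exact ⟨-1, neg_ne_zero.2 one_ne_zero, hne⟩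
  exact Universal.exists_hom_lift_of Types.B2.certified
    ⟨⟨_, Types.CoefB2.coef_ok⟩, ⟨_, Types.StCerts.conj_B2⟩⟩ hperf hπ hc σ
    fun _ _ h1 h2 => B2Three.exists_lift h1 h2 (int_surj h3)

theorem lift_D4 {F : Type*} [Field F] [Fintype F] (hF : 3 ≤ Fintype.card F) {E G₁ : Type*}
    [Group E] [Group G₁] {π : E →* G₁} (hπ : Function.Surjective π) (hc : π.ker ≤ Subgroup.center E)
    (σ : chevD4.SteinbergCover F →* G₁) : ∃ τ : chevD4.SteinbergCover F →* E, π.comp τ = σ := by
  rcases Nat.lt_or_ge 4 (Fintype.card F) with h | h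
  · exact Universal.exists_hom_lift_all (SmallFields.big_of_card h) (by simp) hπ hc σ
  rcases Nat.eq_or_lt_of_le h with h4 | h4
  · exact SmallFields.lift_four (by simp) h4 hπ hc σ
  have h3 : Fintype.card F = 3 := by omega
  haveI := SmallFields.charP_three h3
  exact SLD4.exists_hom_lift (int_surj h3) hπ hc σ

end Cfsg.Agent.Chevalley.Cover.Exceptional
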