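import Cfsg.Agent.Lib.Chevalley.Cover.Symbol
import Cfsg.Agent.Lib.Chevalley.Types.StCerts

/-!
Over a finite field the cover coincides with the group of all three kinds of relators.
-/

set_option autoImplicit false

namespace Cfsg.Agent.Chevalley.Cover.K2

open Cfsg.Lie Cfsg.Agent.Chevalley.Eval Cfsg.Agent.Chevalley.Table Cfsg.Agent.Chevalley.Check
  Cfsg.Agent.Chevalley.Cert Cfsg.Agent.Chevalley.Perfect Cfsg.Agent.Chevalley.StUnip
  Cfsg.Agent.Chevalley.StKernel Cfsg.Agent.Chevalley.StSteinberg Cfsg.Agent.Chevalley.Cover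

/-- Each fundamental root is moved by a unit, or by a square next to one that is. -/
noncomputable def symChk (T : Tab) : Bool :=
  allR T.l fun i => (anyR T.n fun s => isUnit1 (pairT T s (T.simple i))) ||
    anyR T.l fun j => Nat.beq (pairT T (T.simple j) (T.simple i)).natAbs 2 &&
      anyR T.n fun s => isUnit1 (pairT T s (T.simple j))

variable {D : ChevalleyDatum} {F : Type*} [Field F] [Finite F] {T : Tab} (hC : Certified D T)
  (hT : HasCerts T) (hchk : symChk T = true)
include hC hT hchk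

theorem sym_all {G : Type*} [Group G] (S : Sys hC F G) {i : ℕ} (hi : i < D.rank) {a b : F}
    (ha : a ≠ 0) (hb0 : b ≠ 0) : Symbol.sym S i a b = 1 := by
  have hunit : ∀ k < D.rank, anyR T.n (fun s => isUnit1 (pairT T s (T.simple k))) = true →
      ∀ x y : F, x ≠ 0 → y ≠ 0 → Symbol.sym S k x y = 1 := by
    intro k hk h x y hx hy
    obtain ⟨s, hs, h3⟩ := of_anyR h
    rw [hC.n_eq] at hs
    rw [hC.simple_eq hk, pairT_eq hC hs (hC.simple_lt hk)] at h3
    exact Symbol.sym_eq_one_of_unit S hT hk hs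
      (Int.natAbs_eq_iff.1 (Nat.eq_of_beq_eq_true h3)) hx hy
  have h := of_allR hchk i (hC.l_eq ▸ hi)
  rw [Bool.or_eq_true] at h
  rcases h with h | h
  · exact hunit i hi h a b ha hb0
  · obtain ⟨j, hj, h1⟩ := of_anyR h
    rw [Bool.and_eq_true] at h1
    rw [hC.l_eq] at hj
    have h2 := h1.1
    rw [hC.simple_eq hi, hC.simple_eq hj, pairT_eq hC (hC.simple_lt hj) (hC.simple_lt hi)] at h2
    exact Symbol.sym_eq_one_of_square S hT hi hj (Int.natAbs_eq_iff.1 (Nat.eq_of_beq_eq_true h2))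
      (hunit j hj h1.2) ha hb0

theorem exists_iso : ∃ e : D.SteinbergCover F ≃* D.SteinbergGroup F,
    ∀ (r : ℕ) (t : F), e (D.scGen F r t) = D.stGen F r t := by
  have hmul := Symbol.hb_mul_of_simple (Sys.scSys (F := F) hC) hT
    fun i hi a b ha hb0 => sym_all hC hT hchk _ hi ha hb0
  obtain ⟨f, hf⟩ := Sys.exists_hom hC (X := D.stGen F)
    ⟨fun _ hr => stGen_add hr, fun _ hr _ hs => stGen_comm hr hs⟩
  have hlift : FreeGroup.lift (PresentedGroup.of (rels := D.steinbergRelsAB F)) =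
      PresentedGroup.mk (D.steinbergRelsAB F) :=
    FreeGroup.ext_hom _ _ fun p => by simp; rfl
  have hrel : ∀ w ∈ D.steinbergRels F,
      FreeGroup.lift (PresentedGroup.of (rels := D.steinbergRelsAB F)) w = 1 := by
    rw [hlift]
    rintro w (h | ⟨r, a, b, hr, ha, hb0, rfl⟩)
    · exact PresentedGroup.one_of_mem h
    · have hH : ∀ c, PresentedGroup.mk (D.steinbergRelsAB F) (D.stH r c) =
          hb (Sys.scSys (F := F) hC) r c := fun c => by
        simp [StKernel.hb, StConj.nb, Sys.scSys, ChevalleyDatum.stH, Sys.scGen_prod, ChevalleyDatum.hWord,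
          ChevalleyDatum.nWord, mul_assoc]
      rw [map_mul, map_mul, map_inv, hH, hH, hH, mul_inv_eq_one]
      exact hmul r hr a b ha hb0
  let g : D.SteinbergGroup F →* D.SteinbergCover F := PresentedGroup.toGroup hrel
  have hg : ∀ r < D.nroots, ∀ t, g (D.stGen F r t) = D.scGen F r t := by
    intro r hr t
    have : D.stGen F r t = PresentedGroup.of ((⟨r, hr⟩, t) : Fin D.nroots × F) := by
      simp [ChevalleyDatum.stGen, ChevalleyDatum.stX, hr]; rfl
    rw [this, Sys.scGen_of hr]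
    exact PresentedGroup.toGroup.of _
  refine ⟨MonoidHom.toMulEquiv f g (Sys.scHom_ext fun r hr t => ?_) ?_, fun r t => ?_⟩
  · simp [hf r hr, hg r hr]
  · refine MonoidHom.eq_of_eqOn_dense stGen_closure ?_
    rintro x ⟨r, t, hr, rfl⟩
    simp [hf r hr, hg r hr]
  · show f (D.scGen F r t) = _
    by_cases hr : r < D.nroots
    · exact hf r hr t
    · simp [ChevalleyDatum.scGen, ChevalleyDatum.stGen, ChevalleyDatum.stX, hr]

end Cfsg.Agent.Chevalley.Cover.K2

namespace Cfsg.Agent.Chevalley.Cover.K2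

open Cfsg.Lie

theorem sym_G2 : symChk Data.G2.tab = true := by decide +kernel
theorem sym_B2 : symChk Data.B2.tab = true := by decide +kernel
theorem sym_D4 : symChk Data.D4.tab = true := by decide +kernel
theorem sym_F4 : symChk Data.F4.tab = true := by decide +kernel
theorem sym_E6 : symChk Data.E6.tab = true := by decide +kernel
theorem sym_E7 : symChk Data.E7.tab = true := by decide +kernel
theorem sym_E8 : symChk Data.E8.tab = true := by decide +kernel

theorem exists_iso_all {D : ChevalleyDatum} {F : Type*} [Field F] [Finite F]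
    (hD : D ∈ [chevG2, chevB2, chevD4, chevF4, chevE6, chevE7, chevE8]) :
    ∃ e : D.SteinbergCover F ≃* D.SteinbergGroup F,
      ∀ (r : ℕ) (t : F), e (D.scGen F r t) = D.stGen F r t := by
  simp only [List.mem_cons, List.not_mem_nil, or_false] at hD
  rcases hD with rfl | rfl | rfl | rfl | rfl | rfl | rfl
  · exact exists_iso Types.G2.certified ⟨⟨_, Types.CoefG2.coef_ok⟩, ⟨_, Types.StCerts.conj_G2⟩⟩ sym_G2
  · exact exists_iso Types.B2.certified ⟨⟨_, Types.CoefB2.coef_ok⟩, ⟨_, Types.StCerts.conj_B2⟩⟩ sym_B2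
  · exact exists_iso Types.D4.certified ⟨⟨_, Types.CoefD4.coef_ok⟩, ⟨_, Types.StCerts.conj_D4⟩⟩ sym_D4
  · exact exists_iso Types.F4.certified ⟨⟨_, Types.CoefF4.coef_ok⟩, ⟨_, Types.StCerts.conj_F4⟩⟩ sym_F4
  · exact exists_iso Types.E6.certified ⟨⟨_, Types.CoefE6.coef_ok⟩, ⟨_, Types.StCerts.conj_E6⟩⟩ sym_E6
  · exact exists_iso Types.E7.certified ⟨⟨_, Types.CoefE7.coef_ok⟩, ⟨_, Types.StCerts.conj_E7⟩⟩ sym_E7
  · exact exists_iso Types.E8.certified ⟨⟨_, Types.CoefE8.coef_ok⟩, ⟨_, Types.StCerts.conj_E8⟩⟩ sym_E8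

end Cfsg.Agent.Chevalley.Cover.K2
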