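import Mathlib.GroupTheory.Subgroup.Center
import Mathlib.GroupTheory.Commutator.Basic
import Mathlib.GroupTheory.Abelianization.Defs
import Mathlib.Tactic.Group

/-!
Commutators of lifts in a central extension do not depend on the lifts.
-/

set_option autoImplicit false

namespace Cfsg.Agent.Chevalley.Cover.Lift

open scoped commutatorElement

variable {E G : Type*} [Group E] [Group G] {π : E →* G} (hc : π.ker ≤ Subgroup.center E)
include hc

theorem comm_central {z : E} (hz : π z = 1) (a : E) : z * a = a * z :=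
  (Subgroup.mem_center_iff.1 (hc hz) a).symm

omit hc in
theorem exists_central {a a' : E} (h : π a = π a') : ∃ z, π z = 1 ∧ a = z * a' :=
  ⟨a * a'⁻¹, by rw [map_mul, map_inv, h, mul_inv_cancel], by group⟩

theorem comm_congr {a a' b b' : E} (ha : π a = π a') (hb : π b = π b') : ⁅a, b⁆ = ⁅a', b'⁆ := by
  obtain ⟨z, hz, rfl⟩ := exists_central ha
  obtain ⟨w, hw, rfl⟩ := exists_central hb
  have hz' := hc hz
  have hw' := hc hw
  rw [Subgroup.mem_center_iff] at hz' hw'
  simp only [commutatorElement_def]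
  calc z * a' * (w * b') * (z * a')⁻¹ * (w * b')⁻¹ =
      z * (a' * w) * b' * a'⁻¹ * z⁻¹ * b'⁻¹ * w⁻¹ := by group
    _ = (z * w) * (a' * b' * a'⁻¹) * (b'⁻¹ * (z⁻¹ * w⁻¹)) := by
        rw [hw' a', show (z * w) * (a' * b' * a'⁻¹) = z * (w * a') * b' * a'⁻¹ by group]
        have e : z⁻¹ * b'⁻¹ = b'⁻¹ * z⁻¹ :=
          (Commute.inv_inv (show Commute b' z from hz' b')).eq.symm
        calc z * (w * a') * b' * a'⁻¹ * z⁻¹ * b'⁻¹ * w⁻¹ =
            z * (w * a') * b' * a'⁻¹ * (z⁻¹ * b'⁻¹) * w⁻¹ := by group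
          _ = _ := by rw [e]; group
    _ = (a' * b' * a'⁻¹ * b'⁻¹) * (z * w) * (z⁻¹ * w⁻¹) := by
        have e : ∀ x, x * (z * w) = z * w * x := fun x => by
          rw [← mul_assoc, hz' x, mul_assoc, hw' x, mul_assoc]
        rw [e]; group
    _ = a' * b' * a'⁻¹ * b'⁻¹ := by
        rw [mul_assoc, show z * w * (z⁻¹ * w⁻¹) = 1 by rw [hw' z]; group, mul_one]

/-- What commutes below with both factors commutes with their commutator. -/
theorem commute_bracket {s a b x : E} (ha : π ⁅s, a⁆ = 1) (hb : π ⁅s, b⁆ = 1)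
    (hx : π x = π ⁅a, b⁆) : Commute s x := by
  obtain ⟨z, hz, rfl⟩ := exists_central hx
  refine Commute.mul_right (comm_central hc hz s).symm ?_
  have h : ∀ {c : E}, π ⁅s, c⁆ = 1 → π (s * c * s⁻¹) = π c := fun {c} h => by
    rwa [commutatorElement_def, map_mul, map_inv, mul_inv_eq_one] at h
  have e : ⁅s * a * s⁻¹, s * b * s⁻¹⁆ = s * ⁅a, b⁆ * s⁻¹ := by
    simp only [commutatorElement_def]; group
  have := comm_congr hc (h ha) (h hb)
  rw [e] at this
  exact mul_inv_eq_iff_eq_mul.1 this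

omit hc in
theorem comm_mul_left (a a' b : E) : ⁅a * a', b⁆ = a * ⁅a', b⁆ * a⁻¹ * ⁅a, b⁆ := by
  simp only [commutatorElement_def]; group

omit hc in
theorem comm_mul_right (a b b' : E) : ⁅a, b * b'⁆ = ⁅a, b⁆ * (b * ⁅a, b'⁆ * b⁻¹) := by
  simp only [commutatorElement_def]; group

/-- Two homomorphisms from a perfect group agreeing below agree. -/
theorem hom_ext_of_perfect {S : Type*} [Group S] (hS : commutator S = ⊤) {τ τ' : S →* E}
    (h : π.comp τ = π.comp τ') : τ = τ' := by
  ext x
  have hx : x ∈ commutator S := hS ▸ Subgroup.mem_top x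
  rw [commutator_eq_closure] at hx
  induction hx using Subgroup.closure_induction with
  | mem y hy =>
    obtain ⟨a, b, rfl⟩ := hy
    rw [map_commutatorElement, map_commutatorElement]
    exact comm_congr hc (DFunLike.congr_fun h a) (DFunLike.congr_fun h b)
  | one => simp
  | mul y z _ _ hy hz => rw [map_mul, map_mul, hy, hz]
  | inv y _ hy => rw [map_inv, map_inv, hy]

end Cfsg.Agent.Chevalley.Cover.Lift
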