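import Cfsg.Agent.Lib.Chevalley.Cover.Rep
import Cfsg.Agent.Lib.Chevalley.Cover.K2

/-!
The centre of a cover, bounded above by the torus and below by a representation.
-/

set_option autoImplicit false

open scoped Matrix

namespace Cfsg.Agent.Chevalley.Cover.MinCenter

open Cfsg.Lie Cfsg.Agent.Chevalley.Eval Cfsg.Agent.Chevalley.Table Cfsg.Agent.Chevalley.Cert
  Cfsg.Agent.Chevalley.StUnip Cfsg.Agent.Chevalley.StConj Cfsg.Agent.Chevalley.StKernel
  Cfsg.Agent.Chevalley.StSteinberg Cfsg.Agent.Chevalley.TorusCard Cfsg.Agent.Chevalley.Cover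

variable {D : ChevalleyDatum} {F : Type*} [Field F] {T : Tab} (hC : Certified D T)
  {P : Rep.RepTab}

/-- The unit vector of `j`. -/
def vec (F : Type*) [Field F] (P : Rep.RepTab) (j : ℕ) : Fin P.N → F :=
  fun i => if (i : ℕ) = j then 1 else 0

variable {res : ℕ → ℕ → Bool} (hsl : SLCheck.slChk T res = true) (hP : Rep.RelOK T P)
include hC hP

theorem E_vec (r : ℕ) {j : ℕ} (hj : j < P.N) :
    Rep.E F P r *ᵥ vec F P j = ((Rep.col P r j).2 : F) • vec F P (Rep.col P r j).1 := by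
  funext i
  rw [Matrix.mulVec, dotProduct, Finset.sum_eq_single ⟨j, hj⟩]
  · simp [Rep.E, Rep.colMat, vec, eq_comm]
  · intro k _ hk
    have : (k : ℕ) ≠ j := fun h => hk (Fin.ext h)
    simp [vec, this]
  · simp

theorem x_vec {r : ℕ} (hr : r < D.nroots) (t : F) {j : ℕ} (hj : j < P.N) :
    (Rep.xm hC hP r t : Matrix (Fin P.N) (Fin P.N) F) *ᵥ vec F P j =
      vec F P j + (t * ((Rep.col P r j).2 : F)) • vec F P (Rep.col P r j).1 := by
  rw [Rep.coe_xm hC hP hr, Matrix.add_mulVec, Matrix.one_mulVec, Matrix.smul_mulVec,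
    E_vec hC hP r hj, smul_smul]

variable {ρ : D.SteinbergCover F →* GL (Fin P.N) F}
  (hρ : ∀ r < D.nroots, ∀ t, ρ (D.scGen F r t) = Rep.xm hC hP r t)
  {i0 : ℕ} (htop : Rep.topChk T P i0 = true) (hN : 0 < P.N)
include hρ htop hN

theorem hb_top {i : ℕ} (hi : i < D.rank) {a : F} (ha : a ≠ 0) :
    (ρ (hb (Sys.scSys (F := F) hC) (D.simple i) a) : Matrix (Fin P.N) (Fin P.N) F) *ᵥ vec F P 0 =
      (if i = i0 then a else 1) • vec F P 0 := by
  have hp := hC.simple_lt hi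
  have hn := hC.neg_lt hp
  have h := of_allR htop i (hC.l_eq ▸ hi)
  simp only [Rep.topChk, Bool.and_eq_true, ieq_iff, hC.simple_eq hi, hC.neg_eq hp] at h
  obtain ⟨he, h⟩ := h
  have he' : ∀ t : F, (Rep.xm hC hP (D.simple i) t : Matrix (Fin P.N) (Fin P.N) F) *ᵥ vec F P 0 =
      vec F P 0 := fun t => by
    rw [x_vec hC hP hp t hN, he]; simp
  simp only [hb, nb, Sys.scSys, map_mul, Units.val_mul, ← Matrix.mulVec_mulVec, hρ _ hp, hρ _ hn]
  by_cases h0 : i = i0
  · subst h0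
    simp only [Nat.beq_refl, cond_true, Bool.and_eq_true, Nat.beq_eq, ieq_iff] at h
    obtain ⟨⟨hq1, hq2⟩, hf, hs⟩ := h
    obtain ⟨p, hp'⟩ : ∃ p, p = Rep.col P (D.neg (D.simple i)) 0 := ⟨_, rfl⟩
    rw [← hp'] at hq1 hq2 hf hs
    have hpN : p.1 < P.N := hp' ▸ Rep.col_lt hC hP hn 0 hN
    obtain ⟨s, hs'⟩ : ∃ s : F, s = (p.2 : F) := ⟨_, rfl⟩
    have hss : s * s = 1 := by
      rw [hs', ← Int.cast_mul, show p.2 * p.2 = 1 from hs, Int.cast_one]
    have hE : ∀ t : F, (Rep.xm hC hP (D.simple i) t : Matrix (Fin P.N) (Fin P.N) F) *ᵥ vec F P p.1 =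
        vec F P p.1 + (t * s) • vec F P 0 := fun t => by
      rw [x_vec hC hP hp t hpN, hq1, hq2, hs']
    have hF0 : ∀ t : F, (Rep.xm hC hP (D.neg (D.simple i)) t : Matrix (Fin P.N) (Fin P.N) F) *ᵥ
        vec F P 0 = vec F P 0 + (t * s) • vec F P p.1 := fun t => by
      rw [x_vec hC hP hn t hN, ← hp', hs']
    have hF1 : ∀ t : F, (Rep.xm hC hP (D.neg (D.simple i)) t : Matrix (Fin P.N) (Fin P.N) F) *ᵥ
        vec F P p.1 = vec F P p.1 := fun t => by
      rw [x_vec hC hP hn t hpN, hf]; simp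
    simp only [he', hE, hF0, hF1, Matrix.mulVec_add, Matrix.mulVec_smul, inv_neg, inv_one,
      neg_neg, if_true]
    have e1 : ∀ u : F, u * s * s = u := fun u => by rw [mul_assoc, hss, mul_one]
    have hs2 : s ^ 2 = 1 := by rw [pow_two, hss]
    match_scalars <;> field_simp <;> simp only [hs2] <;> ring
  · have e : Nat.beq i i0 = false := Bool.eq_false_iff.2 fun e => h0 (Nat.eq_of_beq_eq_true e)
    simp only [e, cond_false, ieq_iff] at h
    have hf : ∀ t : F, (Rep.xm hC hP (D.neg (D.simple i)) t : Matrix (Fin P.N) (Fin P.N) F) *ᵥ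
        vec F P 0 = vec F P 0 := fun t => by
      rw [x_vec hC hP hn t hN, h]; simp
    simp only [he', hf, if_neg h0, one_smul]

variable (hT : HasCerts T) (hK : K2.symChk T = true) [Finite F]
include hT hK

omit hP hρ htop hN in
theorem hmul : ∀ r < D.nroots, ∀ a b : F, a ≠ 0 → b ≠ 0 →
    hb (Sys.scSys (F := F) hC) r a * hb (Sys.scSys (F := F) hC) r b =
      hb (Sys.scSys (F := F) hC) r (a * b) :=
  Symbol.hb_mul_of_simple _ hT fun i hi a b ha hb0 => K2.sym_all hC hT hK _ hi ha hb0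

theorem sigma_top (hi0 : i0 < D.rank) (c : Fin D.rank → Fˣ) :
    (ρ (sigma (Sys.scSys (F := F) hC) hT (hmul hC hT hK) c) : Matrix (Fin P.N) (Fin P.N) F) *ᵥ
      vec F P 0 = ((c ⟨i0, hi0⟩ : Fˣ) : F) • vec F P 0 := by
  rw [show c = ∏ i, Pi.mulSingle i (c i) from (Finset.univ_prod_mulSingle c).symm]
  suffices key : ∀ s : Finset (Fin D.rank),
      (ρ (sigma (Sys.scSys (F := F) hC) hT (hmul hC hT hK) (∏ i ∈ s, Pi.mulSingle i (c i))) :
        Matrix (Fin P.N) (Fin P.N) F) *ᵥ vec F P 0 =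
        (((∏ i ∈ s, Pi.mulSingle i (c i) : Fin D.rank → Fˣ) ⟨i0, hi0⟩ : Fˣ) : F) • vec F P 0 from
    key Finset.univ
  intro s
  induction s using Finset.induction with
  | empty => simp
  | insert a s ha ih =>
    rw [Finset.prod_insert ha, map_mul, map_mul, Units.val_mul, ← Matrix.mulVec_mulVec, ih,
      Matrix.mulVec_smul, sigma, MonoidHom.noncommPiCoprod_mulSingle]
    show _ • ((ρ (hb _ (D.simple a) (c a : F)) : Matrix (Fin P.N) (Fin P.N) F) *ᵥ vec F P 0) = _
    rw [hb_top hC hP hρ htop hN a.2 (c a).ne_zero, smul_smul, Pi.mul_apply, Units.val_mul,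
      mul_comm]
    congr 2
    by_cases h : (a : ℕ) = i0
    · rw [if_pos h, show (⟨i0, hi0⟩ : Fin D.rank) = a from Fin.ext h.symm, Pi.mulSingle_eq_same]
    · rw [if_neg h, Pi.mulSingle_eq_of_ne (fun e => h (by rw [← e])), Units.val_one]

omit hP hρ htop hN in
theorem center_dvd [Fintype F] {n : ℕ}
    (hn : Nat.card (matHom (G := Fˣ) (cartanMat D)).ker = n) :
    Nat.card (Subgroup.center (D.SteinbergCover F)) ∣ n :=
  hn ▸ (Subgroup.card_dvd_of_le (center_le_image _ hT (hmul hC hT hK))).trans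
    (Subgroup.card_map_dvd _ _)

/-- The centre has the order of the kernel of the Cartan matrix when that is `gcd (p, q - 1)`. -/
theorem center_card [Fintype F] (hi0 : i0 < D.rank) {p : ℕ} (hp : p.Prime)
    (hn : Nat.card (matHom (G := Fˣ) (cartanMat D)).ker = Nat.gcd p (Fintype.card F - 1))
    (v : Fin D.rank → ℕ) (hv : ∀ j, (p : ℤ) ∣ ∑ i, cartanMat D j i * v i) (hv0 : v ⟨i0, hi0⟩ = 1) :
    Nat.card (Subgroup.center (D.SteinbergCover F)) = Nat.gcd p (Fintype.card F - 1) := by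
  have hdvd := center_dvd hC hT hK hn
  rcases (Nat.dvd_prime hp).1 (Nat.gcd_dvd_left p (Fintype.card F - 1)) with h | h
  · rw [h] at hdvd ⊢
    exact Nat.dvd_one.1 hdvd
  rw [h] at hdvd ⊢
  refine ((Nat.dvd_prime hp).1 hdvd).resolve_left fun h1 => ?_
  have hu : Nat.card Fˣ = Fintype.card F - 1 := by rw [Nat.card_units, Nat.card_eq_fintype_card]
  haveI := Fact.mk hp
  obtain ⟨ω, hω⟩ := exists_prime_orderOf_dvd_card' (G := Fˣ) p
    (hu ▸ h ▸ Nat.gcd_dvd_right p _)
  let c : Fin D.rank → Fˣ := fun i => ω ^ v i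
  have hc : c ∈ (matHom (G := Fˣ) (cartanMat D)).ker := by
    rw [MonoidHom.mem_ker]
    funext j
    rw [matHom_apply, Pi.one_apply]
    simp only [c, ← zpow_natCast, ← zpow_mul]
    rw [prod_zpow_sum, ← orderOf_dvd_iff_zpow_eq_one, hω]
    simpa [mul_comm] using hv j
  have hz : sigma (Sys.scSys (F := F) hC) hT (hmul hC hT hK) c ∈
      Subgroup.center (D.SteinbergCover F) := by
    rw [← center_eq_ker (Sys.scSys (F := F) hC) hT, MonoidHom.mem_ker, ← MonoidHom.comp_apply,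
      th_sigma, ← MonoidHom.mem_ker, ker_torHom hC]
    exact hc
  rw [Subgroup.card_eq_one.1 h1, Subgroup.mem_bot] at hz
  have htop' := sigma_top hC hP hρ htop hN hT hK hi0 c
  rw [hz, map_one, Units.val_one, Matrix.one_mulVec] at htop'
  have := congrFun htop' ⟨0, hN⟩
  simp only [vec, Pi.smul_apply, if_pos, smul_eq_mul, mul_one] at this
  have hω1 : ω = 1 := by
    have e : c ⟨i0, hi0⟩ = 1 := Units.ext this.symm
    simpa [c, hv0] using e
  rw [hω1, orderOf_one] at hω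
  exact hp.one_lt.ne hω

end Cfsg.Agent.Chevalley.Cover.MinCenter
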