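import Cfsg.Agent.Lib.Chevalley.Perfect

/-!
The finite check behind the central closedness of the simply-laced covers.
-/

set_option autoImplicit false

namespace Cfsg.Agent.Chevalley.Cover.SLCheck

open Cfsg.Lie Cfsg.Agent.Chevalley.Eval Cfsg.Agent.Chevalley.Table Cfsg.Agent.Chevalley.Check
  Cfsg.Agent.Chevalley.Cert Cfsg.Agent.Chevalley.Perfect

/-- The first `i < n` found with `p i`, from above; `n` when there is none. -/
noncomputable def firstR (n : ℕ) (p : ℕ → Bool) : ℕ :=
  Nat.rec n (fun i ih => bif p i then i else ih) n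

/-- The root `r + s`, or `n`. -/
noncomputable def sumR (T : Tab) (r s : ℕ) : ℕ :=
  List.rec T.n (fun a _ _ => a.1) (T.E r s)

/-- The coefficient of `r + s`. -/
noncomputable def cf (T : Tab) (r s : ℕ) : ℤ :=
  List.rec 0 (fun a _ _ => a.2) (T.E r s)

/-- The chain has at most one step, with coefficient `±1`. -/
noncomputable def shortE (T : Tab) (r s : ℕ) : Bool :=
  List.rec true (fun a L _ => Nat.blt a.1 T.n && (isUnit1 a.2 &&
    List.rec true (fun _ _ _ => false) L)) (T.E r s)

/-- The root elements commute. -/
noncomputable def com (T : Tab) (r s : ℕ) : Bool :=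
  !Nat.beq s (T.neg r) && List.rec true (fun _ _ _ => false) (T.E r s)

/-- `r = p + q` with `p`, `q` commuting with `r` and with `s`. -/
noncomputable def decAt (T : Tab) (r s p : ℕ) : Bool :=
  let q := sumR T (T.neg p) r
  Nat.blt q T.n && (com T s p && (com T s q && (Nat.beq (sumR T p q) r &&
    (!Nat.beq q p && (!Nat.beq q (T.neg p) && (com T r p && com T r q))))))

/-- `(r, s)` is reached from `(v, q)`. -/
noncomputable def moveAt (T : Tab) (r s v q : ℕ) : Bool :=
  let p := sumR T (T.neg r) v
  Nat.blt p T.n && ((!Nat.beq p r && !Nat.beq p (T.neg r)) && ((!Nat.beq q p && !Nat.beq q (T.neg p)) &&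
    (Nat.beq (sumR T r p) v && (Nat.beq (sumR T p q) s && ((com T r q && com T v s) &&
      decide (Int.mul (cf T r s) (cf T p q) = Int.mul (cf T r p) (cf T v q)))))))

/-- The first summand of the standard decomposition of `w`. -/
noncomputable def baseA (T : Tab) (w : ℕ) : ℕ :=
  firstR T.n fun a => Nat.blt (sumR T (T.neg a) w) T.n

/-- The second summand. -/
noncomputable def baseB (T : Tab) (w : ℕ) : ℕ := sumR T (T.neg (baseA T w)) w

/-- The check at one root. -/
noncomputable def rootOK (T : Tab) (w : ℕ) : Bool :=
  let a := baseA T w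
  let b := baseB T w
  Nat.blt a T.n && (Nat.blt b T.n && ((!Nat.beq b a && !Nat.beq b (T.neg a)) &&
    (Nat.beq (sumR T a b) w && anyR T.n fun r0 =>
      let s0 := sumR T (T.neg r0) w
      Nat.blt s0 T.n && (Nat.beq (sumR T r0 s0) w && ((!Nat.beq s0 r0 && !Nat.beq s0 (T.neg r0)) &&
        moveAt T r0 s0 a b)))))

/-- The check at one pair. -/
noncomputable def pairOK (T : Tab) (res : ℕ → ℕ → Bool) (r s : ℕ) : Bool :=
  Nat.beq s (T.neg r) || (shortE T r s &&
    bif Nat.blt (sumR T r s) T.n then
      let w := sumR T r s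
      let a := baseA T w
      let b := baseB T w
      (com T w r && com T w s) &&
        ((!Nat.beq s r && decide (cf T s r = Int.neg (cf T r s))) &&
          (Nat.beq (sumR T s r) w && ((Nat.beq r a && Nat.beq s b) || ((Nat.beq r b && Nat.beq s a) ||
            (moveAt T r s a b || moveAt T r s b a)))))
    else
      bif Nat.blt s r then com T s r else
        res r s || anyR T.n fun p => decAt T r s p || decAt T s r p)

/-- The whole check. -/
noncomputable def slChk (T : Tab) (res : ℕ → ℕ → Bool) : Bool :=
  allR T.n (rootOK T) && allR T.n fun r => allR T.n fun s => pairOK T res r s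

end Cfsg.Agent.Chevalley.Cover.SLCheck
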