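import Cfsg.Agent.Lib.Chevalley.Cover.Lift
import Cfsg.Agent.Lib.Chevalley.Cover.Sys
import Cfsg.Agent.Lib.Chevalley.Cover.SLCheck

/-!
Central closedness of the covers of the simply-laced data: lifts of root elements in a central
extension, normalised as commutators, satisfy both kinds of relators again.
-/

set_option autoImplicit false

open scoped Matrix commutatorElement

namespace Cfsg.Agent.Chevalley.Cover.SLClosed

open Cfsg.Lie Cfsg.Agent.Chevalley.Eval Cfsg.Agent.Chevalley.Table Cfsg.Agent.Chevalley.Check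
  Cfsg.Agent.Chevalley.Cert Cfsg.Agent.Chevalley.Perfect Cfsg.Agent.Chevalley.Cover.Lift
  Cfsg.Agent.Chevalley.Cover.Sys Cfsg.Agent.Chevalley.Cover.SLCheck

variable {D : ChevalleyDatum} {F : Type*} [Field F] {T : Tab}

theorem sumR_eq {r s w : ℕ} {c : ℤ} (h : T.E r s = [(w, c)]) : sumR T r s = w ∧ cf T r s = c := by
  simp [sumR, cf, h]

theorem com_eq {r s : ℕ} (h : com T r s = true) : s ≠ T.neg r ∧ T.E r s = [] := by
  simp only [com, Bool.and_eq_true, Bool.not_eq_true'] at h
  refine ⟨Nat.ne_of_beq_eq_false h.1, ?_⟩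
  cases hE : T.E r s with
  | nil => rfl
  | cons a L => rw [hE] at h; simp at h

theorem shortE_eq {r s : ℕ} (h : shortE T r s = true) :
    T.E r s = [] ∨ ∃ w c, T.E r s = [(w, c)] ∧ w < T.n ∧ (c = 1 ∨ c = -1) := by
  cases hE : T.E r s with
  | nil => exact Or.inl rfl
  | cons a L =>
    simp only [shortE, hE, Bool.and_eq_true, Nat.blt_eq] at h
    obtain ⟨h1, h2, h3⟩ := h
    cases L with
    | nil =>
      refine Or.inr ⟨a.1, a.2, rfl, h1, ?_⟩
      have : a.2.natAbs = 1 := Nat.eq_of_beq_eq_true h2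
      omega
    | cons b L => simp at h3

theorem firstR_spec {n : ℕ} (p : ℕ → Bool) (h : firstR n p < n) : p (firstR n p) = true := by
  suffices key : ∀ m ≤ n, ∀ k, Nat.rec (motive := fun _ => ℕ) n (fun i ih => bif p i then i else ih) m = k →
      k < n → p k = true from key n le_rfl _ rfl h
  intro m hm
  induction m with
  | zero => intro k hk hk'; simp at hk; omega
  | succ m ih =>
    intro k hk hk'
    cases hp : p m with
    | true => simp [hp] at hk; exact hk ▸ hp
    | false => simp [hp] at hk; exact ih (by omega) k hk hk'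

variable (hC : Certified D T) {res : ℕ → ℕ → Bool} (hchk : slChk T res = true)
include hC hchk

theorem root_ok {w : ℕ} (hw : w < D.nroots) : rootOK T w = true := by
  simp only [slChk, Bool.and_eq_true] at hchk
  exact of_allR hchk.1 w (hC.n_eq ▸ hw)

theorem pair_ok {r s : ℕ} (hr : r < D.nroots) (hs : s < D.nroots) : pairOK T res r s = true := by
  simp only [slChk, Bool.and_eq_true] at hchk
  exact of_allR (of_allR hchk.2 r (hC.n_eq ▸ hr)) s (hC.n_eq ▸ hs)

theorem short {r s : ℕ} (hr : r < D.nroots) (hs : s < D.nroots) (hn : s ≠ D.neg r) :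
    T.E r s = [] ∨ ∃ w c, T.E r s = [(w, c)] ∧ w < D.nroots ∧ (c = 1 ∨ c = -1) := by
  have h := pair_ok hC hchk hr hs
  simp only [pairOK, Bool.or_eq_true, Bool.and_eq_true] at h
  rcases h with h | h
  · exact absurd (Nat.eq_of_beq_eq_true h) (by rw [hC.neg_eq hr]; exact hn)
  · rw [← hC.n_eq]; exact shortE_eq h.1

theorem commWord_nil {r s : ℕ} (hr : r < D.nroots) (hs : s < D.nroots) (hn : s ≠ D.neg r)
    (h : T.E r s = []) (t u : F) : D.commWord F r s t u = [] := by
  have hn' : r ≠ D.neg s := fun e => hn (by rw [e, hC.neg_neg hs])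
  rw [ChevalleyDatum.commWord, ← commOf_eq hC hr hs]
  rcases short hC hchk hs hr hn' with h' | ⟨w, c, h', -⟩ <;> simp [commOf, chRoot, h, h']

theorem commWord_one {r s w : ℕ} {c : ℤ} (hr : r < D.nroots) (hs : s < D.nroots) (hn : s ≠ D.neg r)
    (h : T.E r s = [(w, c)]) (t u : F) : D.commWord F r s t u = [(w, -((c : F) * t * u))] := by
  have hn' : r ≠ D.neg s := fun e => hn (by rw [e, hC.neg_neg hs])
  rw [ChevalleyDatum.commWord, ← commOf_eq hC hr hs]
  rcases short hC hchk hs hr hn' with h' | ⟨w', c', h', -⟩ <;> simp [commOf, chRoot, chM, h, h']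

/-- `(r, s)` with sum `w`. -/
def SumTo (D : ChevalleyDatum) (T : Tab) (r s w : ℕ) : Prop :=
  r < D.nroots ∧ s < D.nroots ∧ w < D.nroots ∧ s ≠ r ∧ s ≠ D.neg r ∧
    ∃ c, T.E r s = [(w, c)] ∧ (c = 1 ∨ c = -1)

omit hchk in
/-- `r` and `s` commute in the presentation. -/
def Com (_hC : Certified D T) (r s : ℕ) : Prop :=
  r < D.nroots ∧ s < D.nroots ∧ s ≠ D.neg r ∧ T.E r s = []

omit hchk in
theorem com_of {r s : ℕ} (hr : r < D.nroots) (hs : s < D.nroots) (h : com T r s = true) :
    Com hC r s := by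
  obtain ⟨h1, h2⟩ := com_eq h
  exact ⟨hr, hs, hC.neg_eq hr ▸ h1, h2⟩

theorem sumTo_of {r s w : ℕ} (hr : r < D.nroots) (hs : s < D.nroots) (hw : w < D.nroots)
    (hne : s ≠ r) (hn : s ≠ D.neg r) (h : sumR T r s = w) : SumTo D T r s w := by
  rcases short hC hchk hr hs hn with h' | ⟨w', c, h', -, hc⟩
  · simp only [sumR, h'] at h
    rw [hC.n_eq] at h
    omega
  · rw [(sumR_eq h').1] at h
    exact ⟨hr, hs, hw, hne, hn, c, h ▸ h', hc⟩

theorem sum_com {r s w : ℕ} (h : SumTo D T r s w) :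
    Com hC w r ∧ Com hC w s ∧ SumTo D T s r w ∧ cf T s r = -cf T r s := by
  obtain ⟨hr, hs, hw, hne, hn, c, hE, -⟩ := h
  have hp := pair_ok hC hchk hr hs
  simp only [pairOK, Bool.or_eq_true, Bool.and_eq_true] at hp
  rcases hp with hp | ⟨-, hp⟩
  · exact absurd (Nat.eq_of_beq_eq_true hp) (by rw [hC.neg_eq hr]; exact hn)
  · rw [(sumR_eq hE).1, show Nat.blt w T.n = true by rw [Nat.blt_eq, hC.n_eq]; exact hw] at hp
    simp only [cond_true, Bool.and_eq_true, decide_eq_true_eq] at hp
    obtain ⟨⟨h1, h2⟩, ⟨-, h3⟩, h4, -⟩ := hp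
    exact ⟨com_of hC hw hr h1, com_of hC hw hs h2,
      sumTo_of hC hchk hs hr hw hne.symm (fun e => hn (by rw [e, hC.neg_neg hs]))
        (Nat.eq_of_beq_eq_true h4), h3⟩

/-- The move from `(v, q)` to `(r, s)` through `p`. -/
def Move (hC : Certified D T) (r s v q p : ℕ) : Prop :=
  SumTo D T r p v ∧ SumTo D T p q s ∧ Com hC r q ∧ Com hC v s ∧
    cf T r s * cf T p q = cf T r p * cf T v q

theorem move_of {r s v q : ℕ} (hr : r < D.nroots) (hs : s < D.nroots) (hv : v < D.nroots)
    (hq : q < D.nroots) (h : moveAt T r s v q = true) :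
    ∃ p, Move hC r s v q p := by
  simp only [moveAt, Bool.and_eq_true, Bool.not_eq_true', Nat.blt_eq, decide_eq_true_eq] at h
  obtain ⟨hp, ⟨h1, h2⟩, ⟨h3, h4⟩, h5, h6, ⟨h7, h8⟩, h9⟩ := h
  rw [hC.n_eq] at hp
  rw [hC.neg_eq hr] at hp h1 h2 h3 h4 h5 h6 h9
  rw [hC.neg_eq hp] at h4
  exact ⟨_, sumTo_of hC hchk hr hp hv (Nat.ne_of_beq_eq_false h1) (Nat.ne_of_beq_eq_false h2)
      (Nat.eq_of_beq_eq_true h5),
    sumTo_of hC hchk hp hq hs (Nat.ne_of_beq_eq_false h3) (Nat.ne_of_beq_eq_false h4)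
      (Nat.eq_of_beq_eq_true h6),
    com_of hC hr hq h7, com_of hC hv hs h8, h9⟩

variable {E G₁ : Type*} [Group E] [Group G₁] {π : E →* G₁} (hπ : Function.Surjective π)
  (hc : π.ker ≤ Subgroup.center E) {g : ℕ → F → G₁} (hg : Rels D g)
include hπ hc hg

omit hπ hc in
theorem g_com {r s : ℕ} (h : Com hC r s) (t u : F) : g r t * g s u = g s u * g r t := by
  obtain ⟨hr, hs, hn, hE⟩ := h
  by_cases hsr : s = r
  · subst hsr
    rw [← hg.add s hs, ← hg.add s hs, add_comm]
  · have e := hg.comm r hr s hs hsr hn t u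
    rw [commWord_nil hC hchk hr hs hn hE, List.map_nil, List.prod_nil, mul_one] at e
    exact e.symm

omit hπ hc in
theorem g_bracket {r s w : ℕ} (h : SumTo D T r s w) (t u : F) :
    ⁅g s u, g r t⁆ = g w (-((cf T r s : F) * t * u)) := by
  obtain ⟨hwr, hws, -, -⟩ := sum_com hC hchk h
  obtain ⟨hr, hs, -, hne, hn, c, hE, -⟩ := h
  have e := hg.comm r hr s hs hne hn t u
  rw [commWord_one hC hchk hr hs hn hE, List.map_singleton, List.prod_singleton] at e
  rw [(sumR_eq hE).2, commutatorElement_def, e]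
  have h1 : ∀ v, Commute (g w v) (g r t) := fun v => g_com hC hchk hg hwr v t
  have h2 : ∀ v, Commute (g w v) (g s u) := fun v => g_com hC hchk hg hws v u
  rw [mul_assoc (g r t) (g s u), (h2 _).eq.symm, ← mul_assoc, (h1 _).eq.symm]
  group

/-- Commuting pairs lift to commuting pairs, given the residual pairs. -/
theorem com_lift
    (hres : ∀ r s, Com hC r s → res r s = true → ∀ t u x y, π x = g r t → π y = g s u → Commute x y)
    {r s : ℕ} (h : Com hC r s) (t u : F) {x y : E} (hx : π x = g r t) (hy : π y = g s u) :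
    Commute x y := by
  suffices key : ∀ r s, Com hC r s → Nat.blt s r = false → ∀ t u x y,
      π x = g r t → π y = g s u → Commute x y by
    by_cases hlt : Nat.blt s r = true
    · have h' : Com hC s r := by
        obtain ⟨hr, hs, hn, hE⟩ := h
        have hp := pair_ok hC hchk hr hs
        simp only [pairOK, Bool.or_eq_true, Bool.and_eq_true] at hp
        rcases hp with hp | ⟨-, hp⟩
        · exact absurd (Nat.eq_of_beq_eq_true hp) (by rw [hC.neg_eq hr]; exact hn)
        · rw [show sumR T r s = T.n by simp [sumR, hE]] at hp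
          rw [show Nat.blt T.n T.n = false by rw [Bool.eq_false_iff, ne_eq, Nat.blt_eq]; omega,
            hlt] at hp
          simp only [cond_false, cond_true] at hp
          exact com_of hC hs hr hp
      refine (key s r h' ?_ u t y x hy hx).symm
      rw [Bool.eq_false_iff, ne_eq, Nat.blt_eq]
      rw [Nat.blt_eq] at hlt
      omega
    · exact key r s h (Bool.not_eq_true _ ▸ hlt) t u x y hx hy
  clear h hx hy x y t u r s
  intro r s h hle t u x y hx hy
  have h0 := h
  obtain ⟨hr, hs, hn, hE⟩ := h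
  have hp := pair_ok hC hchk hr hs
  simp only [pairOK, Bool.or_eq_true, Bool.and_eq_true] at hp
  rcases hp with hp | ⟨-, hp⟩
  · exact absurd (Nat.eq_of_beq_eq_true hp) (by rw [hC.neg_eq hr]; exact hn)
  rw [show sumR T r s = T.n by simp [sumR, hE],
    show Nat.blt T.n T.n = false by rw [Bool.eq_false_iff, ne_eq, Nat.blt_eq]; omega, hle] at hp
  simp only [cond_false, Bool.or_eq_true] at hp
  rcases hp with hp | hp
  · exact hres r s h0 hp t u x y hx hy
  have key : ∀ r s : ℕ, r < D.nroots → s < D.nroots → ∀ p, p < T.n → decAt T r s p = true →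
      ∀ t u x y, π x = g r t → π y = g s u → Commute x y := by
    intro r s hr hs p hp hd t u x y hx hy
    rw [hC.n_eq] at hp
    simp only [decAt, Bool.and_eq_true, Bool.not_eq_true', Nat.blt_eq] at hd
    obtain ⟨hq, h1, h2, h3, h4, h5, -, -⟩ := hd
    rw [hC.neg_eq hp] at hq h2 h3 h4 h5
    rw [hC.n_eq] at hq
    have hsum : SumTo D T p _ r := sumTo_of hC hchk hp hq hr (Nat.ne_of_beq_eq_false h4)
      (Nat.ne_of_beq_eq_false h5) (Nat.eq_of_beq_eq_true h3)
    obtain ⟨q, hq_def⟩ : ∃ q, q = sumR T (D.neg p) r := ⟨_, rfl⟩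
    rw [← hq_def] at hsum hq h2
    obtain ⟨a, ha⟩ := hπ (g q 1)
    obtain ⟨b, hb⟩ := hπ (g p (-((cf T p q : F) * t)))
    refine (commute_bracket hc (s := y) (a := a) (b := b) ?_ ?_ ?_).symm
    · rw [map_commutatorElement, hy, ha, commutatorElement_eq_one_iff_mul_comm]
      exact g_com hC hchk hg (com_of hC hs hq h2) u 1
    · rw [map_commutatorElement, hy, hb, commutatorElement_eq_one_iff_mul_comm]
      exact g_com hC hchk hg (com_of hC hs hp h1) u _
    · rw [map_commutatorElement, ha, hb, g_bracket hC hchk hg hsum, hx]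
      congr 1
      obtain ⟨-, -, -, -, -, c, hc', hu⟩ := hsum
      rw [(sumR_eq hc').2]
      rcases hu with rfl | rfl <;> simp
  obtain ⟨p, hpn, hd⟩ := of_anyR hp
  rw [Bool.or_eq_true] at hd
  rcases hd with hd | hd
  · exact key r s hr hs p hpn hd t u x y hx hy
  · exact (key s r hs hr p hpn hd u t y x hy hx).symm

variable (hres : ∀ r s, Com hC r s → res r s = true →
  ∀ t u x y, π x = g r t → π y = g s u → Commute x y)
include hres

/-- The relators lift. -/
theorem exists_lift : ∃ X : ℕ → F → E, Rels D X ∧ ∀ r < D.nroots, ∀ t, π (X r t) = g r t := by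
  classical
  obtain ⟨L, hL⟩ : ∃ L : ℕ → F → E, ∀ r t, π (L r t) = g r t :=
    ⟨fun r t => (hπ (g r t)).choose, fun r t => (hπ (g r t)).choose_spec⟩
  have hcom : ∀ {r s : ℕ}, Com hC r s → ∀ {t u : F} {x y : E}, π x = g r t → π y = g s u →
      Commute x y :=
    fun {r s} h {t u x y} hx hy => com_lift hC hchk hπ hc hg hres h t u hx hy
  -- the standard decomposition
  have hbase : ∀ w, w < D.nroots → SumTo D T (baseA T w) (baseB T w) w ∧
      ∃ r0 s0 p, SumTo D T r0 s0 w ∧ Move hC r0 s0 (baseA T w) (baseB T w) p := by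
    intro w hw
    have h := root_ok hC hchk hw
    simp only [rootOK, Bool.and_eq_true, Bool.not_eq_true', Nat.blt_eq] at h
    obtain ⟨ha, hb, ⟨h1, h2⟩, h3, h4⟩ := h
    rw [hC.n_eq] at ha hb
    rw [hC.neg_eq ha] at h2
    obtain ⟨r0, hr0, h5⟩ := of_anyR h4
    simp only [Bool.and_eq_true, Bool.not_eq_true', Nat.blt_eq] at h5
    obtain ⟨hs0, h6, ⟨h7, h8⟩, h9⟩ := h5
    rw [hC.n_eq] at hr0 hs0
    rw [hC.neg_eq hr0] at hs0 h6 h7 h8 h9
    obtain ⟨p, hp⟩ := move_of hC hchk hr0 hs0 ha hb h9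
    exact ⟨sumTo_of hC hchk ha hb hw (Nat.ne_of_beq_eq_false h1) (Nat.ne_of_beq_eq_false h2)
        (Nat.eq_of_beq_eq_true h3),
      r0, _, p, sumTo_of hC hchk hr0 hs0 hw (Nat.ne_of_beq_eq_false h7)
        (Nat.ne_of_beq_eq_false h8) (Nat.eq_of_beq_eq_true h6), hp⟩
  let X : ℕ → F → E := fun w z =>
    ⁅L (baseB T w) 1, L (baseA T w) (-((cf T (baseA T w) (baseB T w) : F) * z))⁆
  have sq1 : ∀ {r s w : ℕ}, SumTo D T r s w → (cf T r s : F) * (cf T r s : F) = 1 := by
    intro r s w h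
    obtain ⟨-, -, -, -, -, c, hE, hu⟩ := h
    rw [(sumR_eq hE).2]
    rcases hu with rfl | rfl <;> simp
  have hX : ∀ w, w < D.nroots → ∀ z, π (X w z) = g w z := by
    intro w hw z
    have hs := (hbase w hw).1
    simp only [X, map_commutatorElement, hL, g_bracket hC hchk hg hs]
    congr 1
    rw [mul_one, mul_neg, neg_neg, ← mul_assoc, sq1 hs, one_mul]
  have hadd : ∀ w, w < D.nroots → ∀ z z', X w (z + z') = X w z * X w z' := by
    intro w hw z z'
    have hs := (hbase w hw).1
    obtain ⟨hwa, -, -, -⟩ := sum_com hC hchk hs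
    obtain ⟨c, hc'⟩ : ∃ c, c = (cf T (baseA T w) (baseB T w) : F) := ⟨_, rfl⟩
    have e : ⁅L (baseB T w) 1, L (baseA T w) (-(c * (z + z')))⁆ =
        ⁅L (baseB T w) 1, L (baseA T w) (-(c * z)) * L (baseA T w) (-(c * z'))⁆ := by
      refine comm_congr hc rfl ?_
      rw [map_mul, hL, hL, hL, ← hg.add _ hs.1, mul_add, neg_add]
    simp only [X, ← hc']
    rw [e, comm_mul_right]
    congr 1
    have hk : Commute (X w z') (L (baseA T w) (-(c * z))) := hcom hwa (hX w hw z') (hL _ _)
    simp only [X, ← hc'] at hk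
    rw [← hk.eq]
    group
  -- the property of a pair
  let OK : ℕ → ℕ → ℕ → Prop := fun r s w =>
    ∀ t u, ⁅L s u, L r t⁆ = X w (-((cf T r s : F) * t * u))
  have hsign : ∀ {r s v q p : ℕ}, Move hC r s v q p →
      (cf T r s : F) * (cf T p q : F) = (cf T r p : F) * (cf T v q : F) := by
    intro r s v q p h
    rw [← Int.cast_mul, ← Int.cast_mul, h.2.2.2.2]
  -- conjugation by one summand
  have hmove : ∀ {r s v q p : ℕ}, Move hC r s v q p → ∀ t A B : F,
      ⁅L r t, L s (-((cf T p q : F) * A * B))⁆ = ⁅L q B, L v ((cf T r p : F) * t * A)⁆ := by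
    intro r s v q p h t A B
    obtain ⟨h1, h2, h3, h4, -⟩ := h
    obtain ⟨-, -, h1', hsgn⟩ := sum_com hC hchk h1
    obtain ⟨V, hV⟩ : ∃ V, V = ⁅L r t, L p A⁆ := ⟨_, rfl⟩
    have hπV : π V = g v ((cf T r p : F) * t * A) := by
      rw [hV, map_commutatorElement, hL, hL, g_bracket hC hchk hg h1', hsgn]
      push_cast
      congr 1
      ring
    have hS : π ⁅L q B, L p A⁆ = g s (-((cf T p q : F) * A * B)) := by
      rw [map_commutatorElement, hL, hL, g_bracket hC hchk hg h2]
    rw [comm_congr hc (rfl : π (L r t) = _) ((hL s _).trans hS.symm)]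
    have e1 : L r t * L q B * (L r t)⁻¹ = L q B := by
      rw [(hcom h3 (hL r t) (hL q B)).eq, mul_inv_cancel_right]
    have e2 : L r t * L p A * (L r t)⁻¹ = V * L p A := by
      rw [hV, commutatorElement_def]; group
    have e3 : ⁅L r t, ⁅L q B, L p A⁆⁆ =
        ⁅L r t * L q B * (L r t)⁻¹, L r t * L p A * (L r t)⁻¹⁆ * ⁅L q B, L p A⁆⁻¹ := by
      simp only [commutatorElement_def]; group
    rw [e3, e1, e2, comm_mul_right, (hcom h4 hπV hS).eq]
    rw [show ⁅L q B, V⁆ * (⁅L q B, L p A⁆ * V * V⁻¹) * ⁅L q B, L p A⁆⁻¹ = ⁅L q B, V⁆ by group]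
    exact comm_congr hc rfl (hπV.trans (hL _ _).symm)
  have hinv : ∀ w, w < D.nroots → ∀ z, (X w z)⁻¹ = X w (-z) := by
    intro w hw z
    refine inv_eq_of_mul_eq_one_right ?_
    have h0 := hadd w hw 0 0
    rw [add_zero] at h0
    rw [← hadd w hw, add_neg_cancel]
    exact mul_eq_left.1 h0.symm
  have hdown : ∀ {r s v q p w : ℕ}, w < D.nroots → Move hC r s v q p →
      (∀ z, ⁅L q 1, L v z⁆ = X w (-((cf T v q : F) * z * 1))) → OK r s w := by
    intro r s v q p w hw h h1 t u
    have e := hmove h t (-((cf T p q : F) * u)) 1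
    have hu : -((cf T p q : F) * -((cf T p q : F) * u) * 1) = u := by
      rw [mul_one, mul_neg, neg_neg, ← mul_assoc, sq1 h.2.1, one_mul]
    rw [hu, h1] at e
    rw [← commutatorElement_inv, e, hinv w hw]
    congr 1
    linear_combination (t * u * (cf T p q : F)) * hsign h - (cf T r s : F) * t * u * sq1 h.2.1
  have hup : ∀ {r s v q p w : ℕ}, w < D.nroots → Move hC r s v q p → OK r s w → OK v q w := by
    intro r s v q p w hw h h1 T' B
    have e := hmove h ((cf T r p : F) * T') 1 B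
    rw [show (cf T r p : F) * ((cf T r p : F) * T') * 1 = T' by
      rw [mul_one, ← mul_assoc, sq1 h.1, one_mul]] at e
    rw [← e, ← commutatorElement_inv, h1, hinv w hw]
    congr 1
    linear_combination (-(T' * B) * (cf T r p : F)) * hsign h - (cf T v q : F) * T' * B * sq1 h.1
  have hall : ∀ {r s w : ℕ}, SumTo D T r s w → OK r s w := by
    intro r s w hrs
    have hw := hrs.2.2.1
    obtain ⟨hab, r0, s0, p, -, hp⟩ := hbase w hw
    have h0 : OK r0 s0 w := hdown hw hp fun z => by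
      simp only [X, mul_one]
      congr 2
      rw [mul_neg, neg_neg, ← mul_assoc, sq1 hab, one_mul]
    have hab' : OK (baseA T w) (baseB T w) w := hup hw hp h0
    have hba : OK (baseB T w) (baseA T w) w := by
      intro t u
      rw [← commutatorElement_inv, hab' u t, hinv w hw, (sum_com hC hchk hab).2.2.2]
      congr 1
      push_cast
      ring
    obtain ⟨hr, hs, -, hne, hn, c, hE, hu⟩ := hrs
    have hp' := pair_ok hC hchk hr hs
    simp only [pairOK, Bool.or_eq_true, Bool.and_eq_true] at hp'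
    rcases hp' with hp' | ⟨-, hp'⟩
    · exact absurd (Nat.eq_of_beq_eq_true hp') (by rw [hC.neg_eq hr]; exact hn)
    rw [(sumR_eq hE).1, show Nat.blt w T.n = true by rw [Nat.blt_eq, hC.n_eq]; exact hw] at hp'
    simp only [cond_true, Bool.or_eq_true, Bool.and_eq_true] at hp'
    obtain ⟨-, -, -, h | h | h | h⟩ := hp'
    · rw [Nat.eq_of_beq_eq_true h.1, Nat.eq_of_beq_eq_true h.2]; exact hab'
    · rw [Nat.eq_of_beq_eq_true h.1, Nat.eq_of_beq_eq_true h.2]; exact hba
    · obtain ⟨p', hp''⟩ := move_of hC hchk hr hs hab.1 hab.2.1 h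
      exact hdown hw hp'' fun z => hab' z 1
    · obtain ⟨p', hp''⟩ := move_of hC hchk hr hs hab.2.1 hab.1 h
      exact hdown hw hp'' fun z => hba z 1
  refine ⟨X, ⟨hadd, fun r hr s hs hne hn t u => ?_⟩, hX⟩
  rcases short hC hchk hr hs hn with hE | ⟨w, c, hE, hw, hu⟩
  · rw [commWord_nil hC hchk hr hs hn hE, List.map_nil, List.prod_nil, mul_one]
    exact (hcom ⟨hr, hs, hn, hE⟩ (hX r hr t) (hX s hs u)).eq.symm
  · rw [commWord_one hC hchk hr hs hn hE, List.map_singleton, List.prod_singleton]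
    have hst : SumTo D T r s w := ⟨hr, hs, hw, hne, hn, c, hE, hu⟩
    obtain ⟨h1, h2, -, -⟩ := sum_com hC hchk hst
    have hb : ⁅X s u, X r t⁆ = X w (-((c : F) * t * u)) := by
      rw [comm_congr hc ((hX s hs u).trans (hL s u).symm) ((hX r hr t).trans (hL r t).symm),
        hall hst, (sumR_eq hE).2]
    have c1 := hcom h1 (hX w hw (-((c : F) * t * u))) (hX r hr t)
    have c2 := hcom h2 (hX w hw (-((c : F) * t * u))) (hX s hs u)
    rw [mul_assoc, ← c2.eq, ← mul_assoc, ← c1.eq, ← hb, commutatorElement_def]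
    group

omit hπ hc hg hres in
/-- Homomorphisms out of the cover lift through central extensions. -/
theorem exists_hom_lift {E G₁ : Type*} [Group E] [Group G₁] {π : E →* G₁} (hπ : Function.Surjective π)
    (hc : π.ker ≤ Subgroup.center E) (σ : D.SteinbergCover F →* G₁)
    (hres : ∀ r s, Com hC r s → res r s = true → ∀ t u x y,
      π x = σ (D.scGen F r t) → π y = σ (D.scGen F s u) → Commute x y) :
    ∃ τ : D.SteinbergCover F →* E, π.comp τ = σ := by
  have hg : Rels D (fun r t => σ (D.scGen F r t)) := by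
    refine ⟨fun r hr t u => by rw [scGen_add hr, map_mul], fun r hr s hs hne hn t u => ?_⟩
    rw [← map_mul, scGen_comm hr hs hne hn, map_mul, map_mul, map_list_prod, List.map_map]
    rfl
  obtain ⟨X, hX, hX'⟩ := exists_lift hC hchk hπ hc hg hres
  obtain ⟨τ, hτ⟩ := exists_hom hC hX
  exact ⟨τ, scHom_ext fun r hr t => by rw [MonoidHom.comp_apply, hτ r hr, hX' r hr]⟩

end Cfsg.Agent.Chevalley.Cover.SLClosed
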