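import Cfsg.Prelude.Def_KGroupFacts
import Cfsg.Agent.Lib.Chevalley.Cover.K2
import Cfsg.Agent.Lib.Chevalley.Cover.SLClosed
import Mathlib.GroupTheory.QuotientGroup.Finite
import Mathlib.Data.ZMod.Basic

/-!
Schur multipliers from a perfect central cover through which all finite stem extensions factor.
-/

set_option autoImplicit false

open scoped commutatorElement

namespace Cfsg.Agent.Chevalley.Cover.Multiplier

universe u v

open Cfsg.Lie Cfsg.Agent.Chevalley.Table Cfsg.Agent.Chevalley.Cert Cfsg.Agent.Chevalley.StUnip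
  Cfsg.Agent.Chevalley.StKernel

/-- A datum of rank other than two is neither of the exceptions. -/
theorem not_small {F : Type*} [Field F] {D : ChevalleyDatum} (h : D.rank ≠ 2) :
    D ∈ [chevB2, chevG2] → ∃ x : F, x ≠ 0 ∧ x ≠ 1 := by
  intro hm
  simp only [List.mem_cons, List.not_mem_nil, or_false] at hm
  rcases hm with rfl | rfl
  · exact absurd rfl h
  · exact absurd rfl h

section Abstract

variable {C G : Type u} [Group C] [Group G] (θ : C →* G) (hθ : Function.Surjective θ)
include hθ

theorem stem_kernel_image {Γ : Type u} [Group Γ] {σ : Γ →* G} (hσ : IsStemExtension σ)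
    {τ : C →* Γ} (hτ : σ.comp τ = θ) : ∃ π : θ.ker →* σ.ker, Function.Surjective π := by
  obtain ⟨-, hc, hd⟩ := hσ
  have hsplit : ∀ g : Γ, ∃ z x, z ∈ Subgroup.center Γ ∧ g = z * τ x := by
    intro g
    obtain ⟨x, hx⟩ := hθ (σ g)
    refine ⟨g * (τ x)⁻¹, x, hc ?_, (inv_mul_cancel_right g (τ x)).symm⟩
    rw [MonoidHom.mem_ker, map_mul, map_inv, ← MonoidHom.comp_apply, hτ, hx, mul_inv_cancel]
  have hrange : commutator Γ ≤ τ.range := by
    rw [commutator_eq_closure, Subgroup.closure_le]
    rintro g ⟨a, b, rfl⟩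
    obtain ⟨z, x, hz, rfl⟩ := hsplit a
    obtain ⟨w, y, hw, rfl⟩ := hsplit b
    refine ⟨⁅x, y⁆, ?_⟩
    rw [map_commutatorElement]
    refine Cover.Lift.comm_congr (π := QuotientGroup.mk' (Subgroup.center Γ))
      (QuotientGroup.ker_mk' _).le ?_ ?_
    · rw [map_mul, QuotientGroup.mk'_apply, QuotientGroup.mk'_apply,
        (QuotientGroup.eq_one_iff z).2 hz, one_mul]
    · rw [map_mul, QuotientGroup.mk'_apply, QuotientGroup.mk'_apply,
        (QuotientGroup.eq_one_iff w).2 hw, one_mul]
  refine ⟨(τ.comp θ.ker.subtype).codRestrict σ.ker fun x => ?_, ?_⟩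
  · show σ (τ x) = 1
    rw [← MonoidHom.comp_apply, hτ]
    exact x.2
  · rintro ⟨g, hg⟩
    obtain ⟨x, rfl⟩ := hrange (hd hg)
    have hx : θ x = 1 := by rw [← hτ]; exact hg
    exact ⟨⟨x, hx⟩, rfl⟩

/-- The kernel of a perfect central cover with the lifting property is the multiplier. -/
theorem hasSchurMultiplier [Finite C] {A : Type v} [CommGroup A] (hperf : commutator C = ⊤)
    (hc : θ.ker ≤ Subgroup.center C) (e : θ.ker ≃* A)
    (hlift : ∀ (Γ : Type u) [Group Γ] [Finite Γ] (σ : Γ →* G), IsStemExtension σ →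
      ∃ τ : C →* Γ, σ.comp τ = θ) : HasSchurMultiplier G A := by
  refine ⟨⟨C, inferInstance, inferInstance, θ, ⟨hθ, hc, hperf ▸ le_top⟩, ⟨e⟩⟩, fun Γ _ _ σ hσ => ?_⟩
  obtain ⟨τ, hτ⟩ := hlift Γ σ hσ
  obtain ⟨π, hπ⟩ := stem_kernel_image θ hθ hσ hτ
  exact ⟨π.comp e.symm.toMonoidHom, hπ.comp e.symm.surjective⟩

theorem hasCyclic_one [Finite C] (hperf : commutator C = ⊤) (hinj : θ.ker = ⊥)
    (hlift : ∀ (Γ : Type u) [Group Γ] [Finite Γ] (σ : Γ →* G), IsStemExtension σ →
      ∃ τ : C →* Γ, σ.comp τ = θ) : HasCyclicSchurMultiplier G 1 := by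
  haveI : Subsingleton θ.ker := hinj ▸ inferInstance
  haveI : Unique θ.ker := uniqueOfSubsingleton 1
  exact hasSchurMultiplier θ hθ hperf (hinj ▸ bot_le)
    (MulEquiv.ofUnique (M := θ.ker) (N := Multiplicative (ZMod 1))) hlift

end Abstract

variable {D : ChevalleyDatum} {F : Type u} [Field F] [Finite F] {T : Tab} (hC : Certified D T)
  (hT : HasCerts T)
include hC hT

theorem finite_group : Finite (D.SteinbergGroup F) := by
  have hh := StSteinberg.stH_mul (F := F) hC (StSteinberg.stHom hC) (StSteinberg.stHom_gen (F := F) hC)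
  let S := StSteinberg.stSys hC (StSteinberg.stHom hC) (StSteinberg.stHom_gen (F := F) hC)
  have hk := StSteinberg.center_le_image S hT hh
  have hker : (StSteinberg.stHom (F := F) hC).ker = Subgroup.center (D.SteinbergGroup F) :=
    StSteinberg.center_eq_ker S hT
  rw [← hker] at hk
  haveI : Finite (StSteinberg.stHom (F := F) hC).ker :=
    Set.Finite.to_subtype (Set.Finite.subset (by rw [Subgroup.coe_map]; exact (Set.toFinite _).image _) hk)
  haveI : Finite (D.SteinbergGroup F ⧸ (StSteinberg.stHom (F := F) hC).ker) :=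
    Finite.of_equiv _ (QuotientGroup.quotientKerEquivRange _).symm.toEquiv
  exact Finite.of_subgroup_quotient (StSteinberg.stHom (F := F) hC).ker

theorem finite_cover (hK : K2.symChk T = true) : Finite (D.SteinbergCover F) := by
  haveI := finite_group (F := F) hC hT
  obtain ⟨e, -⟩ := K2.exists_iso (F := F) hC hT hK
  exact Finite.of_equiv _ e.symm.toEquiv

variable {res : ℕ → ℕ → Bool} (hsl : SLCheck.slChk T res = true)
  (hperf : commutator (D.SteinbergCover F) = ⊤)
include hsl hperf

/-- The presented group has trivial multiplier when lifts of residual pairs commute. -/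
theorem steinbergGroup_one (hK : K2.symChk T = true)
    (hres : ∀ {E G₁ : Type u} [Group E] [Group G₁] (π : E →* G₁), Function.Surjective π →
      π.ker ≤ Subgroup.center E → ∀ (σ : D.SteinbergCover F →* G₁), ∀ r s, SLClosed.Com hC r s →
        res r s = true → ∀ t u x y,
          π x = σ (D.scGen F r t) → π y = σ (D.scGen F s u) → Commute x y) :
    HasCyclicSchurMultiplier (D.SteinbergGroup F) 1 := by
  haveI := finite_cover (F := F) hC hT hK
  obtain ⟨e, -⟩ := K2.exists_iso (F := F) hC hT hK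
  refine hasCyclic_one e.toMonoidHom e.surjective hperf
    ((MonoidHom.ker_eq_bot_iff _).2 e.injective) fun Γ _ _ σ hσ => ?_
  exact SLClosed.exists_hom_lift hC hsl hσ.1 hσ.2.1 _ (hres σ hσ.1 hσ.2.1 _)

omit hperf in
/-- The multiplier of the Chevalley group is the kernel of the presented group. -/
theorem group_multiplier (hK : K2.symChk T = true) {A : Type v} [CommGroup A]
    (hperf' : commutator (D.SteinbergCover F) = ⊤)
    (hA : Nonempty (Subgroup.center (D.SteinbergGroup F) ≃* A))
    (hres : ∀ {E G₁ : Type u} [Group E] [Group G₁] (π : E →* G₁), Function.Surjective π →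
      π.ker ≤ Subgroup.center E → ∀ (σ : D.SteinbergCover F →* G₁), ∀ r s, SLClosed.Com hC r s →
        res r s = true → ∀ t u x y,
          π x = σ (D.scGen F r t) → π y = σ (D.scGen F s u) → Commute x y) :
    HasSchurMultiplier ↥(D.group F) A := by
  haveI := finite_cover (F := F) hC hT hK
  obtain ⟨e, -⟩ := K2.exists_iso (F := F) hC hT hK
  obtain ⟨eA⟩ := hA
  have hrange := th_range (Sys.scSys (F := F) hC)
  let θ : D.SteinbergCover F →* ↥(D.group F) :=
    (Sys.th hC).codRestrict _ fun x => hrange ▸ ⟨x, rfl⟩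
  have hθ : Function.Surjective θ := by
    rintro ⟨y, hy⟩
    rw [← hrange] at hy
    obtain ⟨x, hx⟩ := hy
    exact ⟨x, Subtype.ext hx⟩
  have hker : θ.ker = Subgroup.center (D.SteinbergCover F) := by
    rw [MonoidHom.ker_codRestrict]
    exact StSteinberg.center_eq_ker (Sys.scSys (F := F) hC) hT
  refine hasSchurMultiplier θ hθ hperf' hker.le
    ((MulEquiv.subgroupCongr hker).trans ((Subgroup.centerCongr e).trans eA)) fun Γ _ _ σ hσ => ?_
  exact SLClosed.exists_hom_lift hC hsl hσ.1 hσ.2.1 _ (hres σ hσ.1 hσ.2.1 _)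

end Cfsg.Agent.Chevalley.Cover.Multiplier
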