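import Cfsg.Agent.Lib.Chevalley.Cover.Universal
import Mathlib.LinearAlgebra.Matrix.GeneralLinearGroup.Basic
import Mathlib.FieldTheory.IsAlgClosed.AlgebraicClosure
import Mathlib.FieldTheory.Perfect

/-!
Lifts through central extensions whose kernel is uniquely divisible by the characteristic.
-/

set_option autoImplicit false

open scoped Matrix commutatorElement

namespace Cfsg.Agent.Chevalley.Cover.PLift

open Cfsg.Lie Cfsg.Agent.Chevalley.Eval Cfsg.Agent.Chevalley.Table Cfsg.Agent.Chevalley.Check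
  Cfsg.Agent.Chevalley.Cert Cfsg.Agent.Chevalley.Group Cfsg.Agent.Chevalley.StUnip
  Cfsg.Agent.Chevalley.StKernel Cfsg.Agent.Chevalley.Cover Cfsg.Agent.Chevalley.Cover.TorCheck
  Cfsg.Agent.Chevalley.Cover.PartialUnip

variable {D : ChevalleyDatum} {F : Type*} [Field F] {T : Tab} {p : ℕ}

theorem X_pow {r : ℕ} (hr : r < D.nroots) (t : F) : ∀ k : ℕ,
    D.scGen F r t ^ k = D.scGen F r ((k : F) * t)
  | 0 => by rw [pow_zero, Nat.cast_zero, zero_mul]; exact (PartialUnip.Y_zero (Y := D.scGen F) (fun _ h => Sys.scGen_add h) hr).symm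
  | k + 1 => by rw [pow_succ, X_pow hr t k, ← Sys.scGen_add hr, Nat.cast_succ]; ring_nf

variable [CharP F p] (hC : Certified D T) {M : Type*} [Group M] {π : M →* D.SteinbergCover F}
  (hπ : Function.Surjective π) (hc : π.ker ≤ Subgroup.center M)
  (hinj : ∀ z, π z = 1 → z ^ p = 1 → z = 1) (hdiv : ∀ z, π z = 1 → ∃ w, π w = 1 ∧ w ^ p = z)
include hπ hc hdiv


theorem exists_p_lift {r : ℕ} (hr : r < D.nroots) (t : F) :
    ∃ y : M, π y = D.scGen F r t ∧ y ^ p = 1 := by
  obtain ⟨x, hx⟩ := hπ (D.scGen F r t)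
  have h1 : π (x ^ p) = 1 := by
    rw [map_pow, hx, X_pow hr, CharP.cast_eq_zero, zero_mul]
    exact PartialUnip.Y_zero (Y := D.scGen F) (fun _ h => Sys.scGen_add h) hr
  obtain ⟨w, hw, e⟩ := hdiv _ h1
  refine ⟨x * w⁻¹, by rw [map_mul, map_inv, hw, hx, inv_one, mul_one], ?_⟩
  rw [(show Commute x w⁻¹ from (Commute.inv_left (Lift.comm_central hc hw x)).symm).mul_pow, inv_pow,
    e, mul_inv_cancel]

include hinj hC

/-- The lifts. -/
theorem exists_lift {W : List (List ℕ)} (hW : ∀ w ∈ W, ∀ i ∈ w, i < D.rank)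
    (hcov : ∀ r < D.nroots, ∀ s < D.nroots, s ≠ r → s ≠ D.neg r →
      ∃ w ∈ W, 0 < gW D T w r ∧ 0 < gW D T w s) :
    ∃ X : ℕ → F → M, Sys.Rels D X ∧ ∀ r < D.nroots, ∀ t, π (X r t) = D.scGen F r t := by
  classical
  let Y : ℕ → F → M := fun r t =>
    if h : r < D.nroots then (exists_p_lift (p := p) hπ hc hdiv h t).choose else 1
  have hY : ∀ r < D.nroots, ∀ t, π (Y r t) = D.scGen F r t ∧ Y r t ^ p = 1 := fun r hr t => by
    simp only [Y, dif_pos hr]
    exact (exists_p_lift (p := p) hπ hc hdiv hr t).choose_spec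
  have huniq : ∀ {y y' : M}, π y = π y' → y ^ p = 1 → y' ^ p = 1 → y = y' := fun {y y'} h h1 h2 => by
    obtain ⟨z, hz, rfl⟩ := Lift.exists_central h
    have e : z ^ p = 1 := by
      rw [(show Commute z y' from Lift.comm_central hc hz y').mul_pow, h2, mul_one] at h1
      exact h1
    rw [hinj z hz e, one_mul]
  have hadd : ∀ r < D.nroots, ∀ t u, Y r (t + u) = Y r t * Y r u := by
    intro r hr t u
    have hcom : Commute (Y r t) (Y r u) := by
      obtain ⟨c, hcdef⟩ : ∃ c, c = ⁅Y r t, Y r u⁆ := ⟨_, rfl⟩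
      have hc1 : π c = 1 := by
        rw [hcdef, map_commutatorElement, commutatorElement_eq_one_iff_mul_comm, (hY r hr t).1,
          (hY r hr u).1, ← Sys.scGen_add hr, ← Sys.scGen_add hr, add_comm]
      have hconj : Y r t * Y r u * (Y r t)⁻¹ = c * Y r u := by
        rw [hcdef, commutatorElement_def]; group
      have e : c ^ p = 1 := by
        have := congrArg (· ^ p) hconj
        simp only [conj_pow, (hY r hr u).2, mul_one, mul_inv_cancel,
          (show Commute c (Y r u) from Lift.comm_central hc hc1 _).mul_pow] at this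
        exact this.symm
      exact commutatorElement_eq_one_iff_mul_comm.1 (hcdef.symm.trans (hinj c hc1 e))
    refine huniq ?_ (hY r hr _).2 (by rw [hcom.mul_pow, (hY r hr t).2, (hY r hr u).2, one_mul])
    rw [map_mul, (hY r hr t).1, (hY r hr u).1, (hY r hr _).1, Sys.scGen_add hr]
  let Ψ : M →* GL D.Idx F := (Sys.th hC).comp π
  have hYΨ : ∀ r < D.nroots, ∀ t, Ψ (Y r t) = xg hC r t := fun r hr t => by
    show Sys.th hC (π (Y r t)) = _
    rw [(hY r hr t).1, Sys.th_gen hC r hr]
  have hword : ∀ (r s : ℕ), r < D.nroots → s < D.nroots → ∀ t u : F,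
      π ((D.commWord F r s t u).map fun e => Y e.1 e.2).prod =
        ((D.commWord F r s t u).map fun e => D.scGen F e.1 e.2).prod := by
    intro r s hr hs t u
    rw [map_list_prod, List.map_map]
    congr 1
    refine List.map_congr_left fun e he => ?_
    simp only [ChevalleyDatum.commWord, List.mem_map] at he
    obtain ⟨d, hd, rfl⟩ := he
    exact (hY _ (Relations.commTerms_lt hC hr hs d hd) _).1
  have step : ∀ {w : List ℕ}, (∀ i ∈ w, i < D.rank) → ∀ {r s : ℕ}, r < D.nroots → s < D.nroots →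
      s ≠ r → s ≠ D.neg r → 0 < gW D T w r → 0 < gW D T w s → wL D w r < wL D w s →
      Known D T Y w (wL D w r + 1) → ∀ t u,
      (Y s u * Y r t = Y r t * Y s u * ((D.commWord F r s t u).map fun e => Y e.1 e.2).prod) ∧
      (Y r t * Y s u = Y s u * Y r t * ((D.commWord F s r u t).map fun e => Y e.1 e.2).prod) := by
    intro w hw r s hr hs hne hnn hpr hps hlt hK t u
    obtain ⟨P, hP⟩ : ∃ P, P = ((D.commWord F r s t u).map fun e => Y e.1 e.2).prod := ⟨_, rfl⟩
    obtain ⟨q, hq⟩ : ∃ q, q = Y s u * P := ⟨_, rfl⟩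
    have hPm := word_mem (Y := Y) hC hw hr hs hpr hps (Or.inl le_rfl) t u
    have hqQ : q ∈ Q D T Y w (wL D w r + 1) := by
      rw [hq, hP]
      exact mul_mem (Y_mem hs hps (by omega) u) hPm
    obtain ⟨f, hf⟩ : ∃ f, f = (Y r t)⁻¹ * Y s u * Y r t := ⟨_, rfl⟩
    have hfq : π f = π q := by
      rw [hf, hq, hP]
      simp only [map_mul, map_inv, (hY r hr t).1, (hY s hs u).1, hword r s hr hs]
      rw [mul_assoc, Sys.scGen_comm hr hs hne hnn]
      group
    obtain ⟨z, hz, hzf⟩ := Lift.exists_central hfq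
    have hfp : f ^ p = 1 := by
      rw [hf, show (Y r t)⁻¹ * Y s u * Y r t = (Y r t)⁻¹ * Y s u * (Y r t)⁻¹⁻¹ by rw [inv_inv],
        conj_pow, (hY s hs u).2, mul_one, mul_inv_cancel]
    rw [hzf, (show Commute z q from Lift.comm_central hc hz q).mul_pow] at hfp
    have hq1 : q ^ p = 1 := by
      refine inj_on_Q (Y := Y) hC hYΨ hadd hw hK (pow_mem hqQ _) (one_mem _) ?_
      show Sys.th hC (π (q ^ p)) = Sys.th hC (π 1)
      congr 1
      have := congrArg π hfp
      rwa [map_mul, map_pow π z, hz, one_pow, one_mul, map_one, ← map_one π] at this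
    rw [hq1, mul_one] at hfp
    have h1 : Y s u * Y r t = Y r t * Y s u * P := by
      have e : f = q := by rw [hzf, hinj z hz hfp, one_mul]
      rw [mul_assoc (Y r t), ← hq, ← e, hf]; group
    refine ⟨hP ▸ h1, ?_⟩
    have hinv : P⁻¹ = ((D.commWord F s r u t).map fun e => Y e.1 e.2).prod := by
      refine inj_on_Q (Y := Y) hC hYΨ hadd hw hK (inv_mem (hP ▸ hPm))
        (word_mem (Y := Y) hC hw hs hr hps hpr (Or.inr le_rfl) u t) ?_
      show Sys.th hC (π P⁻¹) = Sys.th hC (π _)
      congr 1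
      rw [map_inv, hP, hword r s hr hs, hword s r hs hr]
      have a1 := Sys.scGen_comm hr hs hne hnn t u
      have a2 := Sys.scGen_comm hs hr (Ne.symm hne) (fun e => hnn (by rw [e, hC.neg_neg hs])) u t
      rw [a2] at a1
      rw [inv_eq_of_mul_eq_one_left]
      exact mul_left_cancel (a := D.scGen F s u * D.scGen F r t)
        (by rw [← mul_assoc, mul_one]; exact a1.symm)
    rw [← hinv, h1]
    group
  have known : ∀ {w : List ℕ}, (∀ i ∈ w, i < D.rank) → ∀ k b, D.nroots ≤ b + k → Known D T Y w b := by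
    intro w hw k
    induction k with
    | zero =>
      intro b hb r hr s hs _ _ _ har
      have := wL_lt hC hw hr
      omega
    | succ k ih =>
      intro b hbk r hr s hs hne hpr hps har has t u
      by_cases h1 : b + 1 ≤ wL D w r ∧ b + 1 ≤ wL D w s
      · exact ih (b + 1) (by omega) r hr s hs hne hpr hps h1.1 h1.2 t u
      have hnn : s ≠ D.neg r := by
        rintro rfl
        rw [gW, wL_neg hC hw hr, hC.phi_neg (wL_lt hC hw hr)] at hps
        rw [gW] at hpr
        omega
      have hne' : wL D w r ≠ wL D w s := fun e => hne (wL_injective hC hw hr hs e).symm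
      rcases Nat.lt_or_ge (wL D w r) (wL D w s) with h | h
      · exact (step hw hr hs hne hnn hpr hps h (ih _ (by omega)) t u).1
      · exact (step hw hs hr (Ne.symm hne) (fun e => hnn (by rw [e, hC.neg_neg hs])) hps hpr (by omega)
          (ih _ (by omega)) u t).2
  refine ⟨Y, ⟨hadd, fun r hr s hs hne hnn t u => ?_⟩, fun r hr t => (hY r hr t).1⟩
  obtain ⟨w, hwW, h1, h2⟩ := hcov r hr s hs hne hnn
  exact known (hW w hwW) D.nroots 0 (by omega) r hr s hs hne h1 h2 (Nat.zero_le _) (Nat.zero_le _) t u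

end Cfsg.Agent.Chevalley.Cover.PLift
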