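import Cfsg.Agent.Lib.Chevalley.Cover.Sys
import Cfsg.Agent.Lib.Chevalley.Perfect
import Cfsg.Agent.Lib.Chevalley.Types.StCerts

/-!
Perfectness of a covering system.
-/

set_option autoImplicit false

open scoped Matrix commutatorElement

namespace Cfsg.Agent.Chevalley.Cover.PerfectCover

open Cfsg.Lie Cfsg.Agent.Chevalley.Eval Cfsg.Agent.Chevalley.Table Cfsg.Agent.Chevalley.Check
  Cfsg.Agent.Chevalley.Cert Cfsg.Agent.Chevalley.Group Cfsg.Agent.Chevalley.Perfect
  Cfsg.Agent.Chevalley.Relations Cfsg.Agent.Chevalley.Root Cfsg.Agent.Chevalley.Weyl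
  Cfsg.Agent.Chevalley.StUnip Cfsg.Agent.Chevalley.StKernel

variable {D : ChevalleyDatum} {F : Type*} [Field F] {T : Tab} {hC : Certified D T}
  {G : Type*} [Group G] (S : Sys hC F G) (hT : HasCerts T)
include hT

/-- A lift of `h_s(a)`. -/
theorem exists_tor_elt {s : ℕ} (hs : s < D.nroots) (a : Fˣ) :
    ∃ h : G, h ∈ Hbar S ∧ ∀ r < D.nroots, ∀ t : F,
      h * S.X r t * h⁻¹ = S.X r (((a ^ pair D s r : Fˣ) : F) * t) := by
  let c : ℕ → Fˣ := fun i => a ^ cor D s i
  let h : G := ((List.range D.rank).map fun i => hb S (D.simple i) (c i : F)).prod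
  have hmem : h ∈ Hbar S := list_prod_mem fun g hg => by
    obtain ⟨i, hi, rfl⟩ := List.mem_map.1 hg
    exact hb_mem S (List.mem_range.1 hi) (c i).ne_zero
  have hth : S.th h = tor D c := by
    rw [tor_eq_prod hC, map_list_prod, List.map_map]
    congr 1
    refine List.map_congr_left fun i hi => ?_
    exact th_hb S (hC.simple_lt (List.mem_range.1 hi)) _
  refine ⟨h, hmem, fun r hr t => (Hbar_le_Tor S hT hmem).2 r hr _ _ ?_⟩
  rw [hth, tor_conj_x hC c r t hr, torChar_pow hC]

/-- The root elements of `r` lie in the derived group. -/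
def InD {D : ChevalleyDatum} {F : Type*} [Field F] {T : Tab} {hC : Certified D T}
    {G : Type*} [Group G] (S : Sys hC F G) (r : ℕ) : Prop :=
  ∀ t : F, S.X r t ∈ commutator G

theorem inD_toral {r s : ℕ} (hr : r < D.nroots) (hs : s < D.nroots)
    (hp : pair D s r = 1 ∨ pair D s r = -1) (ha : ∃ a : F, a ≠ 0 ∧ a ≠ 1) : InD S r := by
  obtain ⟨a, ha0, ha1⟩ := ha
  obtain ⟨h, -, hh⟩ := exists_tor_elt S hT hs (Units.mk0 a ha0)
  intro t
  obtain ⟨k, hk⟩ : ∃ k : F, k = ((Units.mk0 a ha0 ^ pair D s r : Fˣ) : F) := ⟨_, rfl⟩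
  have hk1 : k - 1 ≠ 0 := sub_ne_zero.2 (by rcases hp with e | e <;> simp [hk, e, ha1])
  have e : S.X r t = ⁅h, S.X r (t / (k - 1))⁆ := by
    rw [commutatorElement_def, hh r hr, ← hk, X_inv S hr, ← S.add r hr]
    congr 1
    rw [← sub_eq_add_neg, ← sub_one_mul, mul_div_cancel₀ _ hk1]
  rw [e, commutator_def]
  exact Subgroup.commutator_mem_commutator (Subgroup.mem_top _) (Subgroup.mem_top _)

omit hT in
theorem inD_word {k a b : ℕ} (ha : a < D.nroots) (hb : b < D.nroots)
    (hba : b ≠ a) (hbn : b ≠ D.neg a)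
    (h : ∀ u : F, ∃ (w w' : List (ℕ × F)) (t u' : F),
      D.commWord F a b t u' = w ++ (k, u) :: w' ∧ ∀ p ∈ w ++ w', InD S p.1) :
    InD S k := by
  intro u
  obtain ⟨w, w', t, u', he, hw⟩ := h u
  have hall : ∀ v : List (ℕ × F), (∀ p ∈ v, InD S p.1) →
      (v.map fun p => S.X p.1 p.2).prod ∈ commutator G := fun v hv =>
    list_prod_mem fun g hg => by
      obtain ⟨p, hp, rfl⟩ := List.mem_map.1 hg
      exact hv p hp p.2
  have hx := S.comm a ha b hb hba hbn t u'
  rw [he, List.map_append, List.prod_append, List.map_cons, List.prod_cons] at hx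
  have hP := hall w fun p hp => hw p (List.mem_append_left _ hp)
  have hP' := hall w' fun p hp => hw p (List.mem_append_right _ hp)
  have hcomm : (S.X b u')⁻¹ * (S.X a t)⁻¹ * (S.X b u' * S.X a t) ∈ commutator G := by
    have : ⁅(S.X b u')⁻¹, (S.X a t)⁻¹⁆ ∈ commutator G := by
      rw [commutator_def]
      exact Subgroup.commutator_mem_commutator (Subgroup.mem_top _) (Subgroup.mem_top _)
    simpa [commutatorElement_def, mul_assoc] using this
  rw [hx] at hcomm
  have e : (S.X b u')⁻¹ * (S.X a t)⁻¹ * (S.X a t * S.X b u' *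
      ((w.map fun p => S.X p.1 p.2).prod * (S.X k u * (w'.map fun p => S.X p.1 p.2).prod))) =
      (w.map fun p => S.X p.1 p.2).prod * S.X k u * (w'.map fun p => S.X p.1 p.2).prod := by
    group
  rw [e] at hcomm
  have := mul_mem (mul_mem (inv_mem hP) hcomm) (inv_mem hP')
  simpa [mul_assoc] using this

theorem inD_reflect {i r : ℕ} (hi : i < D.rank) (hr : r < D.nroots) (h : InD S r) :
    InD S (D.reflectRoot i r) := by
  intro t
  obtain ⟨η, hη, he⟩ := eta_field (F := F) (i := i) (r := r) hC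
  have h1 := n1_conj_x S hT hi hr (η⁻¹ * t)
  rw [← he, mul_inv_cancel_left₀ hη] at h1
  rw [← h1]
  exact Subgroup.Normal.conj_mem inferInstance _ (h _) _

theorem perfect_of_simples (h : ∀ i < D.rank, InD S (D.simple i)) : commutator G = ⊤ := by
  have hall : ∀ r < D.nroots, InD S r :=
    Root.simple_induction hC h fun r hr i hi ih => inD_reflect S hT hi hr ih
  rw [eq_top_iff, ← S.gen]
  refine (Subgroup.closure_le _).2 ?_
  rintro x ⟨r, t, hr, rfl⟩
  exact hall r hr t

theorem toral_of_chk {L : List ℕ} (h : toralChk T L = true) {i : ℕ} (hi : i ∈ L)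
    (ha : ∃ a : F, a ≠ 0 ∧ a ≠ 1) : InD S (D.simple i) := by
  have h1 := of_allL h i hi
  simp only [Bool.and_eq_true, Nat.blt_eq, hC.l_eq] at h1
  obtain ⟨hil, h2⟩ := h1
  obtain ⟨s, hs, h3⟩ := of_anyR h2
  rw [hC.n_eq] at hs
  rw [hC.simple_eq hil, pairT_eq hC hs (hC.simple_lt hil)] at h3
  exact inD_toral S hT (hC.simple_lt hil) hs
    (Int.natAbs_eq_iff.1 (Nat.eq_of_beq_eq_true h3)) ha

omit hT in
theorem single_of_chk {L : List ℕ} (h : singleChk T L = true) {i : ℕ} (hi : i ∈ L) :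
    InD S (D.simple i) := by
  have h1 := of_allL h i hi
  simp only [Bool.and_eq_true, Nat.blt_eq, hC.l_eq] at h1
  obtain ⟨hil, h2⟩ := h1
  obtain ⟨a, ha, h3⟩ := of_anyR h2
  obtain ⟨b, hb, h4⟩ := of_anyR h3
  rw [hC.n_eq] at ha hb
  rw [hC.simple_eq hil] at h4
  simp only [oneTerm, Bool.and_eq_true, Bool.not_eq_true', hC.neg_eq ha] at h4
  obtain ⟨h5, h6, h7⟩ := h4
  refine inD_word S ha hb (Nat.ne_of_beq_eq_false h5) (Nat.ne_of_beq_eq_false h6) fun u => ?_
  rw [commOf_eq hC ha hb] at h7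
  cases hc : D.commTerms a b with
  | nil => rw [hc] at h7; exact absurd h7 (by simp)
  | cons c L' =>
    rw [hc] at h7
    simp only [Bool.and_eq_true, Nat.beq_eq] at h7
    obtain ⟨hck, hcu, hci, hcj, hL⟩ := h7
    cases L' with
    | cons c' L'' => exact absurd hL (by simp)
    | nil =>
      have hC1 : ((c.2.1 : ℤ) : F) * ((c.2.1 : ℤ) : F) = 1 := by
        rcases Int.natAbs_eq_iff.1 (Nat.eq_of_beq_eq_true hcu) with e | e <;> simp [e]
      refine ⟨[], [], -1, (c.2.1 : F) * u, ?_, by simp⟩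
      simp only [ChevalleyDatum.commWord, hc, List.map_cons, List.map_nil, List.nil_append, hck,
        hci, hcj]
      rw [neg_neg, pow_one, pow_one, mul_one, ← mul_assoc, hC1, one_mul]

end Cfsg.Agent.Chevalley.Cover.PerfectCover

namespace Cfsg.Agent.Chevalley.Cover.PerfectCover

open Cfsg.Lie Cfsg.Agent.Chevalley.Cert Cfsg.Agent.Chevalley.StUnip Cfsg.Agent.Chevalley.StKernel

theorem word_B2 : chevB2.commTerms 5 4 = [(6, -1, 1, 1), (7, -1, 2, 1)] := by decide +kernel

theorem idx_B2 : chevB2.simple 0 = 5 ∧ chevB2.simple 1 = 4 ∧ chevB2.reflectRoot 1 5 = 6 ∧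
    chevB2.reflectRoot 0 7 = 4 ∧ chevB2.neg 5 ≠ 4 := by decide +kernel

theorem toral_G2 : Perfect.toralChk Data.G2.tab [0, 1] = true := by decide +kernel
theorem toral_B2 : Perfect.toralChk Data.B2.tab [0] = true := by decide +kernel
theorem single_D4 : Perfect.singleChk Data.D4.tab [0, 1, 2, 3] = true := by decide +kernel
theorem single_F4 : Perfect.singleChk Data.F4.tab [0, 1, 2, 3] = true := by decide +kernel
theorem single_E6 : Perfect.singleChk Data.E6.tab [0, 1, 2, 3, 4, 5] = true := by decide +kernel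
theorem single_E7 : Perfect.singleChk Data.E7.tab [0, 1, 2, 3, 4, 5, 6] = true := by decide +kernel
theorem single_E8 : Perfect.singleChk Data.E8.tab [0, 1, 2, 3, 4, 5, 6, 7] = true := by decide +kernel

variable {F : Type*} [Field F]

theorem perfect_B2 {G : Type*} [Group G] (S : StUnip.Sys Types.B2.certified F G)
    (hT : HasCerts Data.B2.tab) (ha : ∃ a : F, a ≠ 0 ∧ a ≠ 1) : commutator G = ⊤ := by
  refine perfect_of_simples S hT fun i hi => ?_
  change i < 2 at hi
  obtain ⟨e0, e1, e2, e3, e4⟩ := idx_B2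
  have h0 : InD S (chevB2.simple 0) := toral_of_chk S hT toral_B2 (by simp) ha
  have h6 : InD S 6 := by
    rw [← e2]
    exact inD_reflect S hT (by decide) (by decide) (e0 ▸ h0)
  match i, hi with
  | 0, _ => exact h0
  | 1, _ =>
    rw [e1, ← e3]
    refine inD_reflect S hT (by decide) (by decide) ?_
    refine inD_word S (a := 5) (b := 4) (by decide) (by decide) (by decide) (Ne.symm e4) fun u => ?_
    refine ⟨[(6, -u)], [], 1, -u, ?_, ?_⟩
    · simp [ChevalleyDatum.commWord, word_B2]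
    · intro p hp
      simp only [List.append_nil, List.mem_singleton] at hp
      subst hp
      exact h6
  | k + 2, h => omega

/-- A system over one of the seven data is perfect. -/
theorem perfect_all {D : ChevalleyDatum}
    (hD : D ∈ [chevG2, chevB2, chevD4, chevF4, chevE6, chevE7, chevE8])
    (hK : D ∈ [chevB2, chevG2] → ∃ x : F, x ≠ 0 ∧ x ≠ 1) :
    commutator (D.SteinbergCover F) = ⊤ := by
  simp only [List.mem_cons, List.not_mem_nil, or_false] at hD
  rcases hD with rfl | rfl | rfl | rfl | rfl | rfl | rfl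
  · exact perfect_of_simples (Sys.scSys (F := F) Types.G2.certified)
      ⟨⟨_, Types.CoefG2.coef_ok⟩, ⟨_, Types.StCerts.conj_G2⟩⟩ fun i hi =>
      toral_of_chk _ ⟨⟨_, Types.CoefG2.coef_ok⟩, ⟨_, Types.StCerts.conj_G2⟩⟩ toral_G2
        (by change i < 2 at hi; simp; omega) (hK (by simp))
  · exact perfect_B2 (Sys.scSys (F := F) Types.B2.certified)
      ⟨⟨_, Types.CoefB2.coef_ok⟩, ⟨_, Types.StCerts.conj_B2⟩⟩ (hK (by simp))
  · exact perfect_of_simples (Sys.scSys (F := F) Types.D4.certified)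
      ⟨⟨_, Types.CoefD4.coef_ok⟩, ⟨_, Types.StCerts.conj_D4⟩⟩ fun i hi =>
      single_of_chk _ single_D4 (by change i < 4 at hi; simp; omega)
  · exact perfect_of_simples (Sys.scSys (F := F) Types.F4.certified)
      ⟨⟨_, Types.CoefF4.coef_ok⟩, ⟨_, Types.StCerts.conj_F4⟩⟩ fun i hi =>
      single_of_chk _ single_F4 (by change i < 4 at hi; simp; omega)
  · exact perfect_of_simples (Sys.scSys (F := F) Types.E6.certified)
      ⟨⟨_, Types.CoefE6.coef_ok⟩, ⟨_, Types.StCerts.conj_E6⟩⟩ fun i hi =>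
      single_of_chk _ single_E6 (by change i < 6 at hi; simp; omega)
  · exact perfect_of_simples (Sys.scSys (F := F) Types.E7.certified)
      ⟨⟨_, Types.CoefE7.coef_ok⟩, ⟨_, Types.StCerts.conj_E7⟩⟩ fun i hi =>
      single_of_chk _ single_E7 (by change i < 7 at hi; simp; omega)
  · exact perfect_of_simples (Sys.scSys (F := F) Types.E8.certified)
      ⟨⟨_, Types.CoefE8.coef_ok⟩, ⟨_, Types.StCerts.conj_E8⟩⟩ fun i hi =>
      single_of_chk _ single_E8 (by change i < 8 at hi; simp; omega)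

end Cfsg.Agent.Chevalley.Cover.PerfectCover
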