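import Cfsg.Agent.Lib.Chevalley.Cover.PLift
import Cfsg.Agent.Lib.Chevalley.Cover.Universal

/-!
Projective representations of the same characteristic lift to the covers.
-/

set_option autoImplicit false

open scoped Matrix commutatorElement

namespace Cfsg.Agent.Chevalley.Cover.ProjLift

open Cfsg.Lie Cfsg.Agent.Chevalley.Eval Cfsg.Agent.Chevalley.Table Cfsg.Agent.Chevalley.Check
  Cfsg.Agent.Chevalley.Cert Cfsg.Agent.Chevalley.Cover Cfsg.Agent.Chevalley.Cover.TorCheck

variable {D : ChevalleyDatum} {F : Type*} [Field F] {T : Tab}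

theorem cover_of_chk (hC : Certified D T) {W : List (List ℕ)} {M : Mode}
    (hchk : torChk T W M = true) :
    (∀ w ∈ W, ∀ i ∈ w, i < D.rank) ∧ ∀ r < D.nroots, ∀ s < D.nroots, s ≠ r → s ≠ D.neg r →
      ∃ w ∈ W, 0 < StUnip.gW D T w r ∧ 0 < StUnip.gW D T w s := by
  simp only [torChk, Bool.and_eq_true] at hchk
  have hw : ∀ w ∈ W, ∀ i ∈ w, i < D.rank := fun w hmem i hi => by
    simpa only [Nat.blt_eq, hC.l_eq] using of_allL (of_allL hchk.1 w hmem) i hi
  refine ⟨hw, fun r hr s hs hne hnn => ?_⟩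
  have h := of_allR (of_allR hchk.2.2 r (hC.n_eq ▸ hr)) s (hC.n_eq ▸ hs)
  simp only [Bool.or_eq_true, Nat.beq_eq, hC.neg_eq hr, hne, hnn, false_or, Bool.and_eq_true] at h
  obtain ⟨w, hmem, hpos⟩ := of_anyL h.1
  rw [Bool.and_eq_true] at hpos
  exact ⟨w, hmem, TorClosed.posW_iff hC (hw w hmem) hr hpos.1,
    TorClosed.posW_iff hC (hw w hmem) hs hpos.2⟩

theorem lift_div (hC : Certified D T) {W : List (List ℕ)} {Md : Mode}
    (hchk : torChk T W Md = true) {p : ℕ} [CharP F p] {E G₁ : Type*} [Group E] [Group G₁]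
    {π : E →* G₁} (hπ : Function.Surjective π) (hc : π.ker ≤ Subgroup.center E)
    (hinj : ∀ z, π z = 1 → z ^ p = 1 → z = 1) (hdiv : ∀ z, π z = 1 → ∃ w, π w = 1 ∧ w ^ p = z)
    (σ : D.SteinbergCover F →* G₁) : ∃ τ : D.SteinbergCover F →* E, π.comp τ = σ := by
  let M : Subgroup (E × D.SteinbergCover F) :=
    (π.comp (MonoidHom.fst _ _)).eqLocus (σ.comp (MonoidHom.snd _ _))
  let q : M →* D.SteinbergCover F := (MonoidHom.snd _ _).comp M.subtype
  have hq : Function.Surjective q := fun c => by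
    obtain ⟨e, he⟩ := hπ (σ c)
    exact ⟨⟨(e, c), he⟩, rfl⟩
  have hk : ∀ x : M, q x = 1 → π (x : E × D.SteinbergCover F).1 = 1 := fun x hx => by
    have h : π (x : E × D.SteinbergCover F).1 = σ (x : E × D.SteinbergCover F).2 := x.2
    rwa [show (x : E × D.SteinbergCover F).2 = 1 from hx, map_one] at h
  have hqc : q.ker ≤ Subgroup.center M := by
    intro x hx
    rw [Subgroup.mem_center_iff]
    intro y
    exact Subtype.ext (Prod.ext (Subgroup.mem_center_iff.1 (hc (hk x hx)) _)
      (by simp [show (x : E × D.SteinbergCover F).2 = 1 from hx]))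
  obtain ⟨hW, hcov⟩ := cover_of_chk hC hchk
  obtain ⟨X, hX, hX'⟩ := PLift.exists_lift (p := p) hC hq hqc
    (fun z hz hzp => Subtype.ext (Prod.ext (hinj _ (hk z hz) (congrArg (fun m : M => m.1.1) hzp)) hz))
    (fun z hz => by
      obtain ⟨w, hw, hwp⟩ := hdiv _ (hk z hz)
      refine ⟨⟨(w, 1), show π w = σ 1 by rw [hw, map_one]⟩, rfl, Subtype.ext (Prod.ext hwp ?_)⟩
      show (1 : D.SteinbergCover F) ^ p = _
      rw [one_pow]
      exact hz.symm) hW hcov
  obtain ⟨τ', hτ'⟩ := Sys.exists_hom hC hX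
  have hid : q.comp τ' = MonoidHom.id _ :=
    Sys.scHom_ext fun r hr t => by rw [MonoidHom.comp_apply, hτ' r hr, hX' r hr]; rfl
  refine ⟨((MonoidHom.fst _ _).comp M.subtype).comp τ', MonoidHom.ext fun c => ?_⟩
  have h1 : π (τ' c : E × D.SteinbergCover F).1 = σ (τ' c : E × D.SteinbergCover F).2 := (τ' c).2
  rw [show (τ' c : E × D.SteinbergCover F).2 = c from DFunLike.congr_fun hid c] at h1
  exact h1

theorem lift_div_all (hD : D ∈ [chevG2, chevB2, chevD4, chevF4, chevE6, chevE7, chevE8])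
    {p : ℕ} [CharP F p] {E G₁ : Type*} [Group E] [Group G₁]
    {π : E →* G₁} (hπ : Function.Surjective π) (hc : π.ker ≤ Subgroup.center E)
    (hinj : ∀ z, π z = 1 → z ^ p = 1 → z = 1) (hdiv : ∀ z, π z = 1 → ∃ w, π w = 1 ∧ w ^ p = z)
    (σ : D.SteinbergCover F →* G₁) : ∃ τ : D.SteinbergCover F →* E, π.comp τ = σ := by
  simp only [List.mem_cons, List.not_mem_nil, or_false] at hD
  rcases hD with rfl | rfl | rfl | rfl | rfl | rfl | rfl
  · exact lift_div Types.G2.certified TorG2.ok hπ hc hinj hdiv σ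
  · exact lift_div Types.B2.certified TorB2.ok hπ hc hinj hdiv σ
  · exact lift_div Types.D4.certified TorD4.ok hπ hc hinj hdiv σ
  · exact lift_div Types.F4.certified TorF4.ok hπ hc hinj hdiv σ
  · exact SLClosed.exists_hom_lift Types.E6.certified SLE6.ok hπ hc σ fun r s _ h => absurd h (by simp)
  · exact SLClosed.exists_hom_lift Types.E7.certified SLE7.ok hπ hc σ fun r s _ h => absurd h (by simp)
  · exact SLClosed.exists_hom_lift Types.E8.certified SLE8.ok hπ hc σ fun r s _ h => absurd h (by simp)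

/-- Projective representations lift. -/
theorem exists_lift {K : Type*} [Field K]
    (hD : D ∈ [chevG2, chevB2, chevD4, chevF4, chevE6, chevE7, chevE8])
    (hperf : commutator (D.SteinbergCover K) = ⊤) {L : Type*} [Field L]
    (hL : ringChar L = ringChar K) {n : ℕ}
    (σ : D.SteinbergCover K →* GL (Fin n) L ⧸ Subgroup.center (GL (Fin n) L)) :
    ∃ ψ : D.SteinbergCover K →* GL (Fin n) L,
      (QuotientGroup.mk' (Subgroup.center (GL (Fin n) L))).comp ψ = σ := by
  obtain ⟨p, hp⟩ := CharP.exists K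
  haveI := hp
  rcases CharP.char_is_prime_or_zero K p with hpp | hp0
  swap
  · subst hp0
    haveI : CharZero K := CharP.charP_to_charZero K
    exact Universal.exists_hom_lift_all
      ⟨(Finset.range 5).map ⟨fun i : ℕ => (i : K), Nat.cast_injective⟩, by simp⟩ hD
      (QuotientGroup.mk'_surjective _) (QuotientGroup.ker_mk' _).le σ
  haveI := Fact.mk hpp
  haveI : CharP L p := by
    rw [← ringChar.eq K p, ← hL]; infer_instance
  let Lb := AlgebraicClosure L
  haveI : CharP Lb p := charP_of_injective_algebraMap (algebraMap L Lb).injective p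
  let ι : GL (Fin n) L →* GL (Fin n) Lb := Matrix.GeneralLinearGroup.map (algebraMap L Lb)
  have hι : Function.Injective ι := fun a b h => by
    refine Units.ext (Matrix.ext fun i j => (algebraMap L Lb).injective ?_)
    exact congrArg (fun g : GL (Fin n) Lb => (g : Matrix (Fin n) (Fin n) Lb) i j) h
  have hcen : Subgroup.center (GL (Fin n) L) ≤
      (Subgroup.center (GL (Fin n) Lb)).comap ι := by
    intro g hg
    rw [Matrix.GeneralLinearGroup.center_eq_range_scalar] at hg
    obtain ⟨u, rfl⟩ := hg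
    rw [Subgroup.mem_comap, Matrix.GeneralLinearGroup.center_eq_range_scalar]
    refine ⟨Units.map (algebraMap L Lb) u, Units.ext (Matrix.ext fun i j => ?_)⟩
    simp [ι, Matrix.GeneralLinearGroup.scalar, Matrix.GeneralLinearGroup.map, Matrix.diagonal_apply,
      apply_ite (algebraMap L Lb)]
  let φb : GL (Fin n) L ⧸ Subgroup.center (GL (Fin n) L) →*
      GL (Fin n) Lb ⧸ Subgroup.center (GL (Fin n) Lb) := QuotientGroup.map _ _ ι hcen
  have hscalar : ∀ z : GL (Fin n) Lb, z ∈ Subgroup.center (GL (Fin n) Lb) →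
      ∃ u : Lbˣ, z = Matrix.GeneralLinearGroup.scalar (Fin n) u := fun z hz => by
    rw [Matrix.GeneralLinearGroup.center_eq_range_scalar] at hz
    obtain ⟨u, rfl⟩ := hz
    exact ⟨u, rfl⟩
  obtain ⟨τ, hτ⟩ := lift_div_all (F := K) (p := p) hD (QuotientGroup.mk'_surjective _)
    (QuotientGroup.ker_mk' (Subgroup.center (GL (Fin n) Lb))).le
    (fun z hz hzp => by
      obtain ⟨u, rfl⟩ := hscalar z ((QuotientGroup.eq_one_iff z).1 hz)
      rw [← map_pow] at hzp
      refine Units.ext (Matrix.ext fun i j => ?_)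
      have h := congrArg (fun g : GL (Fin n) Lb => (g : Matrix (Fin n) (Fin n) Lb) i i) hzp
      simp [Matrix.GeneralLinearGroup.scalar, Matrix.diagonal_pow] at h
      have hu : (u : Lb) = 1 := frobenius_inj Lb p (by simpa [frobenius_def] using h)
      simp [Matrix.GeneralLinearGroup.scalar, hu])
    (fun z hz => by
      obtain ⟨u, rfl⟩ := hscalar z ((QuotientGroup.eq_one_iff z).1 hz)
      obtain ⟨v, hv⟩ := IsAlgClosed.exists_pow_nat_eq (u : Lb) hpp.pos
      have hv0 : v ≠ 0 := fun h => u.ne_zero (by rw [← hv, h, zero_pow hpp.ne_zero])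
      refine ⟨Matrix.GeneralLinearGroup.scalar (Fin n) (Units.mk0 v hv0),
        (QuotientGroup.eq_one_iff _).2 ?_, ?_⟩
      · rw [Matrix.GeneralLinearGroup.center_eq_range_scalar]; exact ⟨_, rfl⟩
      · rw [← map_pow]; congr 1; exact Units.ext hv)
    (φb.comp σ)
  have hr : ∀ c, τ c ∈ ι.range := by
    intro c
    have hcm : c ∈ commutator (D.SteinbergCover K) := hperf ▸ Subgroup.mem_top c
    rw [commutator_eq_closure] at hcm
    induction hcm using Subgroup.closure_induction with
    | mem c hc' =>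
      obtain ⟨a, b, rfl⟩ := hc'
      obtain ⟨A, hA⟩ := QuotientGroup.mk'_surjective _ (σ a)
      obtain ⟨B, hB⟩ := QuotientGroup.mk'_surjective _ (σ b)
      refine ⟨⁅A, B⁆, ?_⟩
      rw [map_commutatorElement, map_commutatorElement]
      refine Lift.comm_congr (π := QuotientGroup.mk' (Subgroup.center (GL (Fin n) Lb)))
        (QuotientGroup.ker_mk' _).le ?_ ?_
      · rw [← MonoidHom.comp_apply _ τ, hτ, MonoidHom.comp_apply φb, ← hA]; rfl
      · rw [← MonoidHom.comp_apply _ τ, hτ, MonoidHom.comp_apply φb, ← hB]; rfl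
    | one => rw [map_one]; exact one_mem _
    | mul a b _ _ iha ihb => rw [map_mul]; exact mul_mem iha ihb
    | inv a _ iha => rw [map_inv]; exact inv_mem iha
  let e := MonoidHom.ofInjective hι
  refine ⟨e.symm.toMonoidHom.comp (τ.codRestrict ι.range hr), MonoidHom.ext fun c => ?_⟩
  have hφb : Function.Injective φb := by
    rw [injective_iff_map_eq_one]
    intro x
    induction x using QuotientGroup.induction_on with
    | H g =>
      intro hx
      rw [QuotientGroup.map_mk, QuotientGroup.eq_one_iff] at hx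
      rw [QuotientGroup.eq_one_iff, Subgroup.mem_center_iff]
      intro g'
      exact hι (by rw [map_mul, map_mul]; exact Subgroup.mem_center_iff.1 hx (ι g'))
  refine hφb ?_
  have h1 : ι (e.symm ⟨τ c, hr c⟩) = τ c := congrArg Subtype.val (e.apply_symm_apply ⟨τ c, hr c⟩)
  show QuotientGroup.mk' _ (ι (e.symm ⟨τ c, hr c⟩)) = _
  rw [h1]
  exact DFunLike.congr_fun hτ c

end Cfsg.Agent.Chevalley.Cover.ProjLift
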