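import Cfsg.Agent.Lib.Chevalley.Cover.SLClosed
import Mathlib.LinearAlgebra.Matrix.GeneralLinearGroup.Defs

/-!
A representation of a simply-laced cover by signed partial permutation matrices, checked from packed
tables, and its effect on a chosen basis vector.
-/

set_option autoImplicit false

open scoped Matrix

namespace Cfsg.Agent.Chevalley.Cover.Rep

open Cfsg.Lie Cfsg.Agent.Chevalley.Eval Cfsg.Agent.Chevalley.Table Cfsg.Agent.Chevalley.Cert
  Cfsg.Agent.Chevalley.Cover

/-- Binary trees of packed rows. -/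
inductive NTree where
  | leaf : ℕ → NTree
  | node : ℕ → NTree → NTree → NTree

/-- Lookup. -/
noncomputable def NTree.get (t : NTree) : ℕ → ℕ :=
  NTree.rec (fun a _ => a) (fun n _ _ gl gr i => bif Nat.blt i n then gl i else gr (Nat.sub i n)) t

/-- Packed representation: dimension and one row of `N` slots of width 8 per root. -/
structure RepTab where
  N : ℕ
  R : NTree

/-- The code at `(r, j)`. -/
noncomputable def code (P : RepTab) (r j : ℕ) : ℕ := slot 8 (P.R.get r) j

/-- The image `(i, v)` of basis vector `j` under the root vector of `r`. -/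
noncomputable def col (P : RepTab) (r j : ℕ) : ℕ × ℤ :=
  let c := code P r j
  bif Nat.beq c 0 then (0, Int.ofNat 0)
  else (Nat.div (Nat.sub c 1) 2,
    bif Nat.beq (Nat.mod c 2) 1 then Int.ofNat 1 else Int.negSucc 0)

/-- The image under a product of two root vectors. -/
noncomputable def col2 (P : RepTab) (a b j : ℕ) : ℕ × ℤ :=
  let p := col P b j
  let q := col P a p.1
  (q.1, Int.mul q.2 p.2)

/-- The value at position `i`. -/
def wt (p : ℕ × ℤ) (i : ℕ) : ℤ := bif Nat.beq p.1 i then p.2 else Int.ofNat 0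

/-- Three monomial vectors add to zero. -/
def zero3 (p q o : ℕ × ℤ) : Bool :=
  let f := fun i => ieq (Int.add (wt p i) (Int.add (wt q i) (wt o i))) (Int.ofNat 0)
  f p.1 && (f q.1 && f o.1)

/-- Scaling. -/
def scale (c : ℤ) (p : ℕ × ℤ) : ℕ × ℤ := (p.1, Int.mul c p.2)

/-- The check at one root. -/
noncomputable def sqOK (P : RepTab) (r : ℕ) : Bool :=
  allR P.N fun j => Nat.blt (col P r j).1 P.N && ieq (col2 P r r j).2 (Int.ofNat 0)

/-- The check at one pair. -/
noncomputable def pairOK (T : Tab) (P : RepTab) (r s : ℕ) : Bool :=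
  List.rec
    (allR P.N fun j => (Nat.beq (code P r j) 0 && Nat.beq (code P s j) 0) ||
      zero3 (col2 P s r j) (scale (Int.negSucc 0) (col2 P r s j)) (0, Int.ofNat 0))
    (fun a _ _ => allR P.N fun j =>
      (Nat.beq (code P r j) 0 && (Nat.beq (code P s j) 0 && Nat.beq (code P a.1 j) 0)) ||
      (zero3 (col2 P s r j) (scale (Int.negSucc 0) (col2 P r s j)) (scale a.2 (col P a.1 j)) &&
        (ieq (col2 P r a.1 j).2 (Int.ofNat 0) && ieq (col2 P s a.1 j).2 (Int.ofNat 0))))
    (T.E r s)

/-- All relations at one root. -/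
noncomputable def relAt (T : Tab) (P : RepTab) (r : ℕ) : Bool :=
  sqOK P r && allR T.n fun s =>
    Nat.beq s r || (Nat.beq s (T.neg r) || pairOK T P r s)

/-- All relations in a range of roots. -/
noncomputable def relRange (T : Tab) (P : RepTab) (a m : ℕ) : Bool :=
  allR m fun i => relAt T P (Nat.add a i)

/-- All relations. -/
def RelOK (T : Tab) (P : RepTab) : Prop := ∀ r < T.n, relAt T P r = true

/-- The fundamental roots on the vector `0`: weight `1` at `i0` and `0` elsewhere. -/
noncomputable def topChk (T : Tab) (P : RepTab) (i0 : ℕ) : Bool :=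
  allR T.l fun i =>
    let e := T.simple i
    let f := T.neg e
    ieq (col P e 0).2 (Int.ofNat 0) &&
      bif Nat.beq i i0 then
        let p := col P f 0
        let q := col P e p.1
        (Nat.beq q.1 0 && ieq q.2 p.2) &&
          (ieq (col P f p.1).2 (Int.ofNat 0) && ieq (Int.mul p.2 p.2) (Int.ofNat 1))
      else ieq (col P f 0).2 (Int.ofNat 0)

theorem relOK_of_chunks {T : Tab} {P : RepTab} (m K : ℕ) (hn : T.n = m * K)
    (h : ∀ k < K, relRange T P (m * k) m = true) : RelOK T P := by
  intro r hr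
  rw [hn] at hr
  have hm : 0 < m := Nat.pos_of_ne_zero fun e => by simp [e] at hr
  have := of_allR (h (r / m) (Nat.div_lt_of_lt_mul hr)) (r % m) (Nat.mod_lt r hm)
  rwa [show Nat.add (m * (r / m)) (r % m) = r from Nat.div_add_mod r m] at this

variable (F : Type*) [Field F] (P : RepTab)

/-- The matrix with the given monomial columns. -/
def colMat (f : ℕ → ℕ × ℤ) : Matrix (Fin P.N) (Fin P.N) F :=
  Matrix.of fun i j => if (f j).1 = i then ((f j).2 : F) else 0

/-- The root vector. -/
noncomputable def E (r : ℕ) : Matrix (Fin P.N) (Fin P.N) F := colMat F P (col P r)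

variable {F P}

theorem col_of_zero {r j : ℕ} (h : code P r j = 0) : col P r j = (0, 0) := by
  simp [col, h]

theorem colMat_mul {f g : ℕ → ℕ × ℤ} (hg : ∀ j < P.N, (g j).1 < P.N) :
    colMat F P f * colMat F P g =
      colMat F P fun j => ((f (g j).1).1, (f (g j).1).2 * (g j).2) := by
  ext i j
  rw [Matrix.mul_apply, Finset.sum_eq_single ⟨(g j).1, hg j j.2⟩]
  · simp only [colMat, Matrix.of_apply, if_pos rfl]
    split_ifs <;> simp
  · intro k _ hk
    have : (g j).1 ≠ k := fun h => hk (Fin.ext h.symm)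
    simp [colMat, this]
  · simp

theorem colMat_zero {f : ℕ → ℕ × ℤ} (h : ∀ j < P.N, (f j).2 = 0) : colMat F P f = 0 := by
  ext i j
  simp [colMat, h j j.2]

theorem colMat_scale (c : ℤ) (f : ℕ → ℕ × ℤ) :
    colMat F P (fun j => scale c (f j)) = (c : F) • colMat F P f := by
  ext i j
  by_cases e : (f j).1 = (i : ℕ) <;>
    simp [colMat, scale, Cert.imul_eq, e]

theorem wt_eq (p : ℕ × ℤ) (i : ℕ) : wt p i = if p.1 = i then p.2 else 0 := by
  by_cases h : p.1 = i
  · simp [wt, h]
  · have e : Nat.beq p.1 i = false := Bool.eq_false_iff.2 fun e => h (Nat.eq_of_beq_eq_true e)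
    simp [wt, h, e]

theorem colMat_zero3 {f g h : ℕ → ℕ × ℤ} (hz : ∀ j < P.N, zero3 (f j) (g j) (h j) = true) :
    colMat F P f + colMat F P g + colMat F P h = 0 := by
  ext i j
  obtain ⟨h1, h2, h3⟩ : _ ∧ _ ∧ _ := by
    simpa only [zero3, Bool.and_eq_true, ieq_iff] using hz j j.2
  simp only [Cert.iadd_eq, wt_eq, Int.ofNat_eq_natCast, Nat.cast_zero] at h1 h2 h3
  have key : (if (f j).1 = (i : ℕ) then (f j).2 else 0) +
      ((if (g j).1 = (i : ℕ) then (g j).2 else 0) + (if (h j).1 = (i : ℕ) then (h j).2 else 0)) = 0 := by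
    by_cases e1 : (f j).1 = (i : ℕ)
    · rw [← e1]; simpa using h1
    by_cases e2 : (g j).1 = (i : ℕ)
    · rw [← e2]; simpa using h2
    by_cases e3 : (h j).1 = (i : ℕ)
    · rw [← e3]; simpa using h3
    simp [e1, e2, e3]
  have := congrArg (Int.cast : ℤ → F) key
  simp only [Int.cast_add, Int.cast_zero, apply_ite (Int.cast : ℤ → F)] at this
  simp only [colMat, Matrix.add_apply, Matrix.of_apply, Matrix.zero_apply, add_assoc]
  exact this

section Checked

variable {D : ChevalleyDatum} {T : Tab} (hC : Certified D T) {res : ℕ → ℕ → Bool}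
  (hsl : SLCheck.slChk T res = true) (hP : RelOK T P)
include hC hP

theorem col_lt {r : ℕ} (hr : r < D.nroots) : ∀ j < P.N, (col P r j).1 < P.N := by
  intro j hj
  have h := hP r (hC.n_eq ▸ hr)
  simp only [relAt, Bool.and_eq_true] at h
  have h' := of_allR h.1 j hj
  simp only [Bool.and_eq_true, Nat.blt_eq] at h'
  exact h'.1

theorem E_mul (a : ℕ) {b : ℕ} (hb : b < D.nroots) : E F P a * E F P b = colMat F P (col2 P a b) :=
  colMat_mul (col_lt hC hP hb)

theorem E_sq {r : ℕ} (hr : r < D.nroots) : E F P r * E F P r = 0 := by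
  rw [E_mul hC hP r hr]
  refine colMat_zero fun j hj => ?_
  have h := hP r (hC.n_eq ▸ hr)
  simp only [relAt, Bool.and_eq_true] at h
  have h' := of_allR h.1 j hj
  simp only [Bool.and_eq_true, ieq_iff] at h'
  exact h'.2

/-- The root element. -/
noncomputable def xm (r : ℕ) (t : F) : GL (Fin P.N) F :=
  if hr : r < D.nroots then
    ⟨1 + t • E F P r, 1 + (-t) • E F P r,
      by simp [mul_add, add_mul, smul_smul, E_sq hC hP hr],
      by simp [mul_add, add_mul, smul_smul, E_sq hC hP hr]⟩
  else 1

theorem coe_xm {r : ℕ} (hr : r < D.nroots) (t : F) :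
    (xm hC hP r t : Matrix (Fin P.N) (Fin P.N) F) = 1 + t • E F P r := by
  simp [xm, hr]

include hsl

theorem rels : Sys.Rels D (xm (F := F) (P := P) hC hP) := by
  refine ⟨fun r hr t u => Units.ext ?_, fun r hr s hs hne hn t u => ?_⟩
  · rw [Units.val_mul, coe_xm hC hP hr, coe_xm hC hP hr, coe_xm hC hP hr]
    simp [mul_add, add_mul, smul_smul, E_sq hC hP hr, add_smul]
    abel
  have h := hP r (hC.n_eq ▸ hr)
  simp only [relAt, Bool.and_eq_true] at h
  have h' := of_allR h.2 s (hC.n_eq ▸ hs)
  simp only [Bool.or_eq_true, Nat.beq_eq, hC.neg_eq hr, hne, hn, false_or, pairOK] at h'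
  have hm : colMat F P (fun j => scale (Int.negSucc 0) (col2 P r s j)) = -(E F P r * E F P s) := by
    rw [colMat_scale, E_mul hC hP r hs]
    simp
  rcases SLClosed.short hC hsl hr hs hn with hE | ⟨w, c, hE, hw, -⟩
  · rw [hE] at h'
    rw [SLClosed.commWord_nil hC hsl hr hs hn hE, List.map_nil, List.prod_nil, mul_one]
    have hz := colMat_zero3 (F := F) (f := col2 P s r)
      (g := fun j => scale (Int.negSucc 0) (col2 P r s j)) (h := fun _ => (0, Int.ofNat 0)) fun j hj => by
        have e := of_allR h' j hj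
        simp only [Bool.or_eq_true, Bool.and_eq_true, Nat.beq_eq] at e
        rcases e with ⟨e1, e2⟩ | e
        · simp [zero3, col2, scale, wt, col_of_zero e1, col_of_zero e2, ieq]
        · exact e
    rw [hm, ← E_mul hC hP s hr, colMat_zero (f := fun _ => (0, Int.ofNat 0)) (fun _ _ => rfl),
      add_zero, add_neg_eq_zero] at hz
    refine Units.ext ?_
    rw [Units.val_mul, Units.val_mul, coe_xm hC hP hr, coe_xm hC hP hs]
    simp [mul_add, add_mul, smul_smul, hz, mul_comm t u]
    abel
  · rw [hE] at h'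
    rw [SLClosed.commWord_one hC hsl hr hs hn hE, List.map_singleton, List.prod_singleton]
    have hall : ∀ j < P.N, zero3 (col2 P s r j) (scale (Int.negSucc 0) (col2 P r s j))
          (scale c (col P w j)) = true ∧ (col2 P r w j).2 = Int.ofNat 0 ∧
          (col2 P s w j).2 = Int.ofNat 0 := fun j hj => by
      have e := of_allR h' j hj
      simp only [Bool.or_eq_true, Bool.and_eq_true, Nat.beq_eq, ieq_iff] at e
      rcases e with ⟨e1, e2, e3⟩ | e
      · refine ⟨?_, ?_, ?_⟩ <;>
          simp [zero3, col2, scale, wt, col_of_zero e1, col_of_zero e2, col_of_zero e3, ieq]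
      · exact e
    have hz := colMat_zero3 (F := F) fun j hj => (hall j hj).1
    rw [hm, ← E_mul hC hP s hr, colMat_scale, ← sub_eq_add_neg] at hz
    have h1 : E F P r * E F P w = 0 := by
      rw [E_mul hC hP r hw]; exact colMat_zero fun j hj => (hall j hj).2.1
    have h2 : E F P s * E F P w = 0 := by
      rw [E_mul hC hP s hw]; exact colMat_zero fun j hj => (hall j hj).2.2
    have hsr : E F P s * E F P r = E F P r * E F P s - (c : F) • E F P w := by
      have := eq_neg_of_add_eq_zero_left hz
      rw [sub_eq_iff_eq_add] at this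
      rw [this]
      show -((c : F) • E F P w) + _ = _
      abel
    refine Units.ext ?_
    rw [Units.val_mul, Units.val_mul, Units.val_mul, coe_xm hC hP hr, coe_xm hC hP hs,
      coe_xm hC hP hw]
    simp only [mul_add, add_mul, one_mul, mul_one, smul_mul_assoc, mul_smul_comm, smul_smul,
      mul_assoc, h1, h2, mul_zero, smul_zero, add_zero, hsr, smul_sub]
    match_scalars <;> ring

/-- The representation of the cover. -/
theorem exists_rep : ∃ ρ : D.SteinbergCover F →* GL (Fin P.N) F,
    ∀ r < D.nroots, ∀ t, ρ (D.scGen F r t) = xm hC hP r t :=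
  Sys.exists_hom hC (rels hC hsl hP)

end Checked

end Cfsg.Agent.Chevalley.Cover.Rep
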