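import Cfsg.Agent.Lib.Chevalley.Cover.PerfectCover
import Cfsg.Agent.Lib.Chevalley.Cover.Lift
import Cfsg.Agent.Lib.Chevalley.SL2
import Mathlib.RingTheory.IntegralDomain
import Mathlib.FieldTheory.Finite.Basic

/-!
Over a finite field the toral elements of a covering system are multiplicative: Steinberg's symbols
vanish.
-/

set_option autoImplicit false

open scoped Matrix commutatorElement

namespace Cfsg.Agent.Chevalley.Cover.Symbol

open Cfsg.Lie Cfsg.Agent.Chevalley.Table Cfsg.Agent.Chevalley.Cert Cfsg.Agent.Chevalley.Group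
  Cfsg.Agent.Chevalley.Relations Cfsg.Agent.Chevalley.Root Cfsg.Agent.Chevalley.Weyl
  Cfsg.Agent.Chevalley.StUnip Cfsg.Agent.Chevalley.StConj Cfsg.Agent.Chevalley.StKernel
  Cfsg.Agent.Chevalley.Cover

variable {D : ChevalleyDatum} {F : Type*} [Field F] {T : Tab} {hC : Certified D T}
  {G : Type*} [Group G] (S : Sys hC F G) (hT : HasCerts T)
include hT

theorem ker_central : S.th.ker ≤ Subgroup.center G := ker_le_center S hT

theorem nb_conj_x {i : ℕ} (hi : i < D.rank) {c : F} (hc : c ≠ 0) (a : F) :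
    nb S (D.simple i) c * S.X (D.simple i) a * (nb S (D.simple i) c)⁻¹ =
      S.X (D.neg (D.simple i)) (-(a / (c * c))) := by
  have hp := hC.simple_lt hi
  have key : nb S (D.simple i) c * S.X (D.simple i) a * (nb S (D.simple i) c)⁻¹ =
      S.X (D.reflectRoot i (D.simple i)) (-(a / (c * c))) := by
    refine conj_eq S hT hi hp hc ?_
    rw [hC.reflect_simple hi, ng_eq_hg_mul hC _ c,
      show hg hC (D.simple i) c * ng hC (D.simple i) 1 * xg hC (D.simple i) a *
          (hg hC (D.simple i) c * ng hC (D.simple i) 1)⁻¹ = hg hC (D.simple i) c *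
          (ng hC (D.simple i) 1 * xg hC (D.simple i) a * (ng hC (D.simple i) (1 : F))⁻¹) *
          (hg hC (D.simple i) c)⁻¹ by group, (SL2.rank1 hC hp).w_conj a,
      show c = ((Units.mk0 c hc : Fˣ) : F) from rfl, hg_eq_tor hC hp,
      tor_conj_x hC _ _ _ (hC.neg_lt hp), Perfect.torChar_pow hC]
    congr 1
    have hpn : pair D (D.simple i) (D.neg (D.simple i)) = -2 := by
      rw [← pair_self hC _ hp, pair, pair, ← Finset.sum_neg_distrib]
      exact Finset.sum_congr rfl fun j hj => by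
        rw [hC.cartan_neg hp (Finset.mem_range.1 hj)]; ring
    rw [hpn, Units.val_zpow_eq_zpow_val, zpow_neg, zpow_two, Units.val_mk0]
    field_simp
  rwa [hC.reflect_simple hi] at key

theorem nb_conj_y {i : ℕ} (hi : i < D.rank) {c : F} (hc : c ≠ 0) (a : F) :
    nb S (D.simple i) c * S.X (D.neg (D.simple i)) a * (nb S (D.simple i) c)⁻¹ =
      S.X (D.simple i) (-(c * c * a)) := by
  have h := nb_conj_x S hT hi (neg_ne_zero.2 hc) (-(c * c * a))
  rw [show -(-(c * c * a) / (-c * -c)) = a by field_simp, ← nb_inv S (hC.simple_lt hi)] at h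
  rw [← h]
  group

/-- Steinberg's identity. -/
theorem nb_steinberg {i : ℕ} (hi : i < D.rank) {t : F} (h0 : t ≠ 0) (h1 : t ≠ 1) :
    nb S (D.simple i) t * nb S (D.simple i) (-1) * nb S (D.simple i) (1 - t) =
      nb S (D.simple i) (t * (1 - t)) := by
  have hp := hC.simple_lt hi
  obtain ⟨s, hs⟩ : ∃ s : F, s = 1 - t := ⟨_, rfl⟩
  have hs0 : s ≠ 0 := hs ▸ sub_ne_zero.2 (Ne.symm h1)
  rw [← hs]
  obtain ⟨x, hx⟩ : ∃ x : F → G, x = S.X (D.simple i) := ⟨_, rfl⟩
  obtain ⟨y, hy⟩ : ∃ y : F → G, y = S.X (D.neg (D.simple i)) := ⟨_, rfl⟩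
  have hm : nb S (D.simple i) (-1 : F) = y 1 * x (-1) * y 1 := by
    have e := nb_conj_x S hT hi (neg_ne_zero.2 (one_ne_zero (α := F))) (-1)
    rw [show -((-1 : F) / (-1 * -1)) = 1 by norm_num, ← hx, ← hy] at e
    have e' := nb_conj_y S hT hi (neg_ne_zero.2 (one_ne_zero (α := F))) (1 : F)
    rw [show -((-1 : F) * -1 * 1) = -1 by norm_num, ← hx, ← hy] at e'
    have ew : nb S (D.simple i) (-1 : F) = x (-1) * y 1 * x (-1) := by
      rw [nb, hx, hy, inv_neg, inv_one, neg_neg]
    calc nb S (D.simple i) (-1 : F) = nb S (D.simple i) (-1 : F) * (x (-1) * y 1 * x (-1)) *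
          (nb S (D.simple i) (-1 : F))⁻¹ := by rw [← ew]; group
      _ = nb S (D.simple i) (-1 : F) * x (-1) * (nb S (D.simple i) (-1 : F))⁻¹ *
          (nb S (D.simple i) (-1 : F) * y 1 * (nb S (D.simple i) (-1 : F))⁻¹) *
          (nb S (D.simple i) (-1 : F) * x (-1) * (nb S (D.simple i) (-1 : F))⁻¹) := by group
      _ = _ := by rw [e, e']
  have e1 : nb S (D.simple i) t * y 1 = x (-(t * t)) * nb S (D.simple i) t := by
    have e := nb_conj_y S hT hi h0 (1 : F)
    rw [mul_one, ← hx, ← hy] at e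
    rw [← e]; group
  have e2 : y 1 * nb S (D.simple i) s = nb S (D.simple i) s * x (-(s * s)) := by
    have e := nb_conj_y S hT hi (neg_ne_zero.2 hs0) (1 : F)
    rw [mul_one, neg_mul_neg, ← nb_inv S hp, ← hx, ← hy] at e
    rw [← e]; group
  have xa : ∀ a b, x a * x b = x (a + b) := fun a b => hx ▸ (S.add _ hp a b).symm
  have x0 : x 0 = 1 := hx ▸ X_zero S hp
  have ya : ∀ a b, y a * y b = y (a + b) := fun a b => hy ▸ (S.add _ (hC.neg_lt hp) a b).symm
  rw [hm, show nb S (D.simple i) t * (y 1 * x (-1) * y 1) * nb S (D.simple i) s =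
    (nb S (D.simple i) t * y 1) * x (-1) * (y 1 * nb S (D.simple i) s) by group, e1, e2]
  simp only [nb, ← hx, ← hy]
  rw [show x (-(t * t)) * (x t * y (-t⁻¹) * x t) * x (-1) * (x s * y (-s⁻¹) * x s * x (-(s * s))) =
    (x (-(t * t)) * x t) * y (-t⁻¹) * ((x t * x (-1)) * x s) * y (-s⁻¹) * (x s * x (-(s * s))) by
      group, xa, xa, xa, xa]
  rw [show t + -1 + s = 0 by rw [hs]; ring, x0, mul_one,
    mul_assoc (x _) (y (-t⁻¹)) (y (-s⁻¹)), ya,
    show -(t * t) + t = t * s by rw [hs]; ring, show s + -(s * s) = t * s by rw [hs]; ring,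
    show -t⁻¹ + -s⁻¹ = -(t * s)⁻¹ by rw [hs]; field_simp; ring]

/-- The failure of multiplicativity. -/
def sym {D : ChevalleyDatum} {F : Type*} [Field F] {T : Tab} {hC : Certified D T}
    {G : Type*} [Group G] (S : Sys hC F G) (i : ℕ) (b k : F) : G :=
  hb S (D.simple i) (k * b) * (hb S (D.simple i) k)⁻¹ * (hb S (D.simple i) b)⁻¹

omit hT in
theorem th_sym {i : ℕ} (hi : i < D.rank) {b k : F} (hb0 : b ≠ 0) (hk : k ≠ 0) :
    S.th (sym S i b k) = 1 := by
  have hp := hC.simple_lt hi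
  rw [sym, map_mul, map_mul, map_inv, map_inv, th_hb S hp, th_hb S hp, th_hb S hp,
    mul_comm k b, (SL2.rank1 hC hp).H_mul b k hb0 hk]
  group

theorem sym_steinberg {i : ℕ} (hi : i < D.rank) {t : F} (h0 : t ≠ 0) (h1 : t ≠ 1) :
    sym S i t (1 - t) = 1 := by
  have hp := hC.simple_lt hi
  have e : hb S (D.simple i) t * hb S (D.simple i) (1 - t) =
      hb S (D.simple i) ((1 - t) * t) := by
    rw [mul_comm (1 - t) t]
    simp only [hb, ← mul_assoc]
    rw [nb_steinberg S hT hi h0 h1]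
  rw [sym, ← e]
  group

theorem sym_eq_bracket {i : ℕ} (hi : i < D.rank) {k b : F} (hk : k ≠ 0) {h : G}
    (hx : ∀ t, h * S.X (D.simple i) t * h⁻¹ = S.X (D.simple i) (k * t))
    (hy : ∀ t, h * S.X (D.neg (D.simple i)) t * h⁻¹ = S.X (D.neg (D.simple i)) (k⁻¹ * t)) :
    sym S i b k = ⁅h, hb S (D.simple i) b⁆ := by
  have hp := hC.simple_lt hi
  have e3 : ∀ d : F, h * nb S (D.simple i) d * h⁻¹ = nb S (D.simple i) (k * d) := fun d => by
    rw [nb, nb, show ∀ x y z : G, h * (x * y * z) * h⁻¹ = h * x * h⁻¹ * (h * y * h⁻¹) * (h * z * h⁻¹)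
      from fun x y z => by group, hx, hy, mul_inv, mul_neg]
  rw [sym, commutatorElement_def, hb, hb, hb,
    show h * (nb S (D.simple i) b * nb S (D.simple i) (-1)) * h⁻¹ =
      h * nb S (D.simple i) b * h⁻¹ * (h * nb S (D.simple i) (-1) * h⁻¹) by group, e3, e3,
    mul_neg, mul_one, ← nb_inv S hp, ← nb_inv S hp]
  group

theorem exists_scale {i r : ℕ} (hi : i < D.rank) (hr : r < D.nroots) (a : Fˣ) :
    ∃ h : G, h ∈ Hbar S ∧
      (∀ t, h * S.X (D.simple i) t * h⁻¹ = S.X (D.simple i) (((a ^ pair D r (D.simple i) : Fˣ) : F) * t)) ∧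
      (∀ t, h * S.X (D.neg (D.simple i)) t * h⁻¹ =
        S.X (D.neg (D.simple i)) ((((a ^ pair D r (D.simple i) : Fˣ) : F))⁻¹ * t)) := by
  have hp := hC.simple_lt hi
  obtain ⟨h, hh, hc⟩ := PerfectCover.exists_tor_elt S hT hr a
  refine ⟨h, hh, hc _ hp, fun t => ?_⟩
  rw [hc _ (hC.neg_lt hp)]
  have : pair D r (D.neg (D.simple i)) = -pair D r (D.simple i) := by
    rw [pair, pair, ← Finset.sum_neg_distrib]
    exact Finset.sum_congr rfl fun j hj => by
      rw [hC.cartan_neg hp (Finset.mem_range.1 hj)]; ring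
  rw [this, zpow_neg, Units.val_inv_eq_inv_val]

/-- The symbol is multiplicative in the first argument at a scale that is attained. -/
theorem sym_mul_left {i : ℕ} (hi : i < D.rank) {k b b' : F} (hk : k ≠ 0) (hb0 : b ≠ 0)
    (hb0' : b' ≠ 0) {h : G}
    (hx : ∀ t, h * S.X (D.simple i) t * h⁻¹ = S.X (D.simple i) (k * t))
    (hy : ∀ t, h * S.X (D.neg (D.simple i)) t * h⁻¹ = S.X (D.neg (D.simple i)) (k⁻¹ * t)) :
    sym S i (b * b') k = sym S i b k * sym S i b' k := by
  have hc := ker_central S hT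
  have e1 := sym_eq_bracket S hT hi (b := b * b') hk hx hy
  have e2 := sym_eq_bracket S hT hi (b := b) hk hx hy
  have e3 := sym_eq_bracket S hT hi (b := b') hk hx hy
  have e : ⁅h, hb S (D.simple i) (b * b')⁆ = ⁅h, hb S (D.simple i) b * hb S (D.simple i) b'⁆ := by
    refine Lift.comm_congr hc rfl ?_
    rw [map_mul, th_hb S (hC.simple_lt hi), th_hb S (hC.simple_lt hi), th_hb S (hC.simple_lt hi),
      (SL2.rank1 hC (hC.simple_lt hi)).H_mul b b' hb0 hb0']
  rw [e1, e, Lift.comm_mul_right, ← e2, ← e3]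
  congr 1
  rw [← Lift.comm_central hc (th_sym S hi hb0' hk)]
  group

variable [Finite F]

omit hT [Finite F] in
theorem mul_all_of_sym {i : ℕ} (h : ∀ a b : F, a ≠ 0 → b ≠ 0 → sym S i a b = 1)
    {a b : F} (ha : a ≠ 0) (hb0 : b ≠ 0) :
    hb S (D.simple i) a * hb S (D.simple i) b = hb S (D.simple i) (a * b) := by
  have h1 := h a b ha hb0
  rw [sym, mul_inv_eq_one, mul_inv_eq_iff_eq_mul] at h1
  rw [mul_comm a b, h1]

theorem hb_comm_same {i : ℕ} (hi : i < D.rank) {a b : F} (ha : a ≠ 0) (hb0 : b ≠ 0) :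
    Commute (hb S (D.simple i) a) (hb S (D.simple i) b) := by
  have hp := hC.simple_lt hi
  have hc := ker_central S hT
  obtain ⟨g, hg⟩ := IsCyclic.exists_generator (α := Fˣ)
  have hH : ∀ u v : Fˣ, S.th (hb S (D.simple i) ((u * v : Fˣ) : F)) =
      S.th (hb S (D.simple i) (u : F)) * S.th (hb S (D.simple i) (v : F)) := fun u v => by
    rw [th_hb S hp, th_hb S hp, th_hb S hp, Units.val_mul]
    exact (SL2.rank1 hC hp).H_mul _ _ u.ne_zero v.ne_zero
  let φ : Fˣ →* GL D.Idx F := MonoidHom.mk' (fun u => S.th (hb S (D.simple i) (u : F))) hH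
  have key : ∀ u : Fˣ, ∃ (z : G) (n : ℤ), S.th z = 1 ∧
      hb S (D.simple i) (u : F) = z * hb S (D.simple i) (g : F) ^ n := by
    intro u
    obtain ⟨n, hn⟩ := Subgroup.mem_zpowers_iff.1 (hg u)
    obtain ⟨z, hz, he⟩ := Lift.exists_central (π := S.th) (a := hb S (D.simple i) (u : F))
      (a' := hb S (D.simple i) (g : F) ^ n) (by
        rw [map_zpow]
        show φ u = φ g ^ n
        rw [← map_zpow, hn])
    exact ⟨z, n, hz, he⟩
  obtain ⟨z, n, hz, e1⟩ := key (Units.mk0 a ha)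
  obtain ⟨z', n', hz', e2⟩ := key (Units.mk0 b hb0)
  rw [Units.val_mk0] at e1 e2
  rw [e1, e2]
  have cz : ∀ x, Commute z x := fun x => Lift.comm_central hc hz x
  have cz' : ∀ x, Commute z' x := fun x => Lift.comm_central hc hz' x
  exact Commute.mul_left (cz _) (Commute.mul_right (cz' _).symm (Commute.zpow_zpow_self _ _ _))

omit hT in
theorem exists_nonsquare_pair (h2 : ringChar F ≠ 2) :
    ∃ t : F, ¬ IsSquare t ∧ ¬ IsSquare (1 - t) := by
  classical
  haveI := Fintype.ofFinite F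
  by_contra hcon
  push_neg at hcon
  obtain ⟨t0, ht0⟩ := FiniteField.exists_nonsquare h2
  let N := {t : F // ¬ IsSquare t}
  let Q := {t : F // IsSquare t ∧ t ≠ 0}
  have hneg : ∀ t : N, t0 * t.1 ≠ 0 := fun t => mul_ne_zero (fun h => ht0 (h ▸ IsSquare.zero))
    (fun h => t.2 (h ▸ IsSquare.zero))
  have hQN : Fintype.card Q ≤ Fintype.card N := by
    refine Fintype.card_le_of_injective (fun q : Q => (⟨t0 * q.1, fun h => ht0 ?_⟩ : N)) ?_
    · have := h.div q.2.1
      rwa [mul_div_assoc, div_self q.2.2, mul_one] at this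
    · intro p q h
      exact Subtype.ext (mul_left_cancel₀ (fun h' : t0 = 0 => ht0 (h' ▸ IsSquare.zero))
        (congrArg Subtype.val h))
  have h1 : ∀ t : N, 1 - t.1 ≠ 0 := fun t h => t.2 (by rw [← sub_eq_zero.1 h]; exact IsSquare.one)
  let f : N → Q := fun t => ⟨1 - t.1, hcon t.1 t.2, h1 t⟩
  have hf : Function.Injective f := fun a b h => Subtype.ext (by
    simpa [f] using congrArg Subtype.val h)
  have hns : ¬ Function.Surjective f := fun hsur => by
    obtain ⟨t, ht⟩ := hsur ⟨1, IsSquare.one, one_ne_zero⟩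
    have : t.1 = 0 := by simpa [f] using congrArg Subtype.val ht
    exact t.2 (this ▸ IsSquare.zero)
  have := Fintype.card_lt_of_injective_not_surjective f hf hns
  omega

/-- Case of a root pairing to `±1`. -/
theorem sym_eq_one_of_unit {i r : ℕ} (hi : i < D.rank) (hr : r < D.nroots)
    (hu : pair D r (D.simple i) = 1 ∨ pair D r (D.simple i) = -1) {a b : F} (ha : a ≠ 0)
    (hb0 : b ≠ 0) : sym S i a b = 1 := by
  haveI := Fintype.ofFinite F
  have hc := ker_central S hT
  have hsc : ∀ k : Fˣ, ∃ h : G,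
      (∀ t, h * S.X (D.simple i) t * h⁻¹ = S.X (D.simple i) ((k : F) * t)) ∧
      (∀ t, h * S.X (D.neg (D.simple i)) t * h⁻¹ = S.X (D.neg (D.simple i)) ((k : F)⁻¹ * t)) := by
    intro k
    rcases hu with e | e
    · obtain ⟨h, -, h1, h2⟩ := exists_scale S hT hi hr k
      rw [e, zpow_one] at h1 h2
      exact ⟨h, h1, h2⟩
    · obtain ⟨h, -, h1, h2⟩ := exists_scale S hT hi hr k⁻¹
      rw [e, zpow_neg_one, inv_inv] at h1 h2
      exact ⟨h, h1, h2⟩
  have hleft : ∀ u v w : Fˣ, sym S i ((u * v : Fˣ) : F) w = sym S i u w * sym S i v w := by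
    intro u v w
    obtain ⟨h, h1, h2⟩ := hsc w
    rw [Units.val_mul]
    exact sym_mul_left S hT hi w.ne_zero u.ne_zero v.ne_zero h1 h2
  have hright : ∀ u v w : Fˣ, sym S i u ((v * w : Fˣ) : F) = sym S i u v * sym S i u w := by
    intro u v w
    obtain ⟨h, h1, h2⟩ := hsc v
    obtain ⟨h', h1', h2'⟩ := hsc w
    have e1 := sym_eq_bracket S hT hi (b := (u : F)) v.ne_zero h1 h2
    have e2 := sym_eq_bracket S hT hi (b := (u : F)) w.ne_zero h1' h2'
    have e := sym_eq_bracket S hT hi (b := (u : F)) (k := (v : F) * w)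
      (mul_ne_zero v.ne_zero w.ne_zero) (h := h' * h)
      (fun t => by rw [show h' * h * S.X (D.simple i) t * (h' * h)⁻¹ =
        h' * (h * S.X (D.simple i) t * h⁻¹) * h'⁻¹ by group, h1, h1']; congr 1; ring)
      (fun t => by rw [show h' * h * S.X (D.neg (D.simple i)) t * (h' * h)⁻¹ =
        h' * (h * S.X (D.neg (D.simple i)) t * h⁻¹) * h'⁻¹ by group, h2, h2']; congr 1
                   rw [mul_inv]; ring)
    rw [Units.val_mul, e, Lift.comm_mul_left, ← e1, ← e2]
    congr 1
    rw [← Lift.comm_central hc (th_sym S hi u.ne_zero v.ne_zero)]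
    group
  obtain ⟨g, hg⟩ := IsCyclic.exists_generator (α := Fˣ)
  have hz : ∀ n m : ℤ, sym S i ((g ^ n : Fˣ) : F) ((g ^ m : Fˣ) : F) =
      sym S i (g : F) (g : F) ^ (n * m) := by
    intro n m
    let φ : Fˣ →* G := MonoidHom.mk' (fun u => sym S i (g : F) (u : F)) (fun v w => hright g v w)
    let ψ : Fˣ →* G := MonoidHom.mk' (fun u => sym S i (u : F) ((g ^ m : Fˣ) : F))
      (fun u v => hleft u v _)
    show ψ (g ^ n) = _
    rw [map_zpow]
    show φ (g ^ m) ^ n = _
    rw [map_zpow, ← zpow_mul, mul_comm]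
    rfl
  have hz1 : sym S i (g : F) (g : F) = 1 := by
    -- the symbol of `(t, -t)`
    have hskew : ∀ t : Fˣ, t ≠ 1 → sym S i (t : F) (-(t : F)) = 1 := by
      intro t ht
      have ht1 : (t : F) ≠ 1 := fun h => ht (Units.ext h)
      have hi1 : ((t⁻¹ : Fˣ) : F) ≠ 1 := fun h => ht (inv_eq_one.1 (Units.ext h))
      obtain ⟨u, hu'⟩ : ∃ u : Fˣ, (u : F) = 1 - ((t⁻¹ : Fˣ) : F) :=
        ⟨Units.mk0 _ (sub_ne_zero.2 (Ne.symm hi1)), rfl⟩
      have h1 : sym S i (t : F) (1 - (t : F)) = 1 := sym_steinberg S hT hi t.ne_zero ht1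
      have h2 : sym S i ((t⁻¹ : Fˣ) : F) (u : F) = 1 :=
        hu' ▸ sym_steinberg S hT hi (Units.ne_zero _) hi1
      have h3 : sym S i (t : F) (u : F) = 1 := by
        have := hleft t t⁻¹ u
        rw [mul_inv_cancel, h2, mul_one] at this
        have h11 := hleft 1 1 u
        rw [one_mul, left_eq_mul] at h11
        rw [h11] at this
        exact this.symm
      have e : 1 - (t : F) = (((-t) * u : Fˣ) : F) := by
        rw [Units.val_mul, Units.val_neg, hu', Units.val_inv_eq_inv_val]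
        field_simp
        ring
      rw [e, hright t (-t) u, h3, mul_one, Units.val_neg] at h1
      exact h1
    by_cases h2 : ringChar F = 2
    · by_cases hg1 : g = 1
      · have := hright g g g
        rw [show g * g = g by rw [hg1, one_mul], left_eq_mul] at this
        exact this
      · haveI : CharP F 2 := h2 ▸ ringChar.charP F
        have := hskew g hg1
        rwa [CharTwo.neg_eq] at this
    · have hm1 : sym S i (g : F) ((-1 : Fˣ) : F) * sym S i (g : F) ((-1 : Fˣ) : F) = 1 := by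
        rw [← hright g (-1) (-1), neg_one_mul, neg_neg]
        have := hright g 1 1
        rw [one_mul, left_eq_mul] at this
        exact this
      have hg1 : g ≠ 1 := by
        intro h
        obtain ⟨n, hn⟩ := Subgroup.mem_zpowers_iff.1 (hg (-1))
        rw [h, one_zpow] at hn
        exact Ring.neg_one_ne_one_of_char_ne_two h2 (by
          have := congrArg Units.val hn
          simpa using this.symm)
      have hsq : sym S i (g : F) (g : F) ^ 2 = 1 := by
        have h := hskew g hg1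
        rw [show -(g : F) = (((-1) * g : Fˣ) : F) by simp, hright] at h
        rw [eq_inv_of_mul_eq_one_right h, inv_pow, pow_two, hm1, inv_one]
      obtain ⟨t, ht, ht'⟩ := exists_nonsquare_pair (F := F) h2
      have ht0 : t ≠ 0 := fun h => ht (h ▸ IsSquare.zero)
      have ht1 : t ≠ 1 := fun h => ht (h ▸ IsSquare.one)
      have hodd : ∀ x : F, ¬ IsSquare x → ∀ hx : x ≠ 0, ∃ n : ℤ, g ^ n = Units.mk0 x hx ∧ Odd n := by
        intro x hx hx0
        obtain ⟨n, hn⟩ := Subgroup.mem_zpowers_iff.1 (hg (Units.mk0 x hx0))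
        refine ⟨n, hn, Int.not_even_iff_odd.1 fun ⟨m, hm⟩ => hx ⟨((g ^ m : Fˣ) : F), ?_⟩⟩
        rw [← Units.val_mul, ← zpow_add, ← hm, hn, Units.val_mk0]
      obtain ⟨n, hn, hno⟩ := hodd t ht ht0
      obtain ⟨m, hm, hmo⟩ := hodd (1 - t) ht' (sub_ne_zero.2 (Ne.symm ht1))
      have h := sym_steinberg S hT hi ht0 ht1
      have e := hz n m
      rw [hn, hm, Units.val_mk0, Units.val_mk0, h] at e
      obtain ⟨k, hk⟩ := hno.mul hmo
      rw [hk, zpow_add, zpow_mul, zpow_one, show (2 : ℤ) = ((2 : ℕ) : ℤ) from rfl, zpow_natCast,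
        hsq, one_zpow, one_mul] at e
      exact e.symm
  obtain ⟨n, hn⟩ := Subgroup.mem_zpowers_iff.1 (hg (Units.mk0 a ha))
  obtain ⟨m, hm⟩ := Subgroup.mem_zpowers_iff.1 (hg (Units.mk0 b hb0))
  have := hz n m
  rw [hn, hm, Units.val_mk0, Units.val_mk0, hz1, one_zpow] at this
  exact this

/-- Case of a fundamental neighbour with vanishing symbol whose root is scaled to a unit. -/
theorem sym_eq_one_of_square {i j : ℕ} (hi : i < D.rank) (hj : j < D.rank)
    (hu : pair D (D.simple j) (D.simple i) = 2 ∨ pair D (D.simple j) (D.simple i) = -2)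
    (hj' : ∀ a b : F, a ≠ 0 → b ≠ 0 → sym S j a b = 1) {a b : F} (ha : a ≠ 0)
    (hb0 : b ≠ 0) : sym S i a b = 1 := by
  haveI := Fintype.ofFinite F
  have hc := ker_central S hT
  have hp := hC.simple_lt hi
  have hpj := hC.simple_lt hj
  -- squares as second argument
  have hsquare : ∀ b k : Fˣ, sym S i (b : F) ((k * k : Fˣ) : F) = 1 := by
    intro b k
    obtain ⟨u, hu'⟩ : ∃ u : Fˣ, u ^ pair D (D.simple j) (D.simple i) = k * k := by
      rcases hu with e | e
      · exact ⟨k, by rw [e, zpow_two]⟩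
      · exact ⟨k⁻¹, by rw [e, zpow_neg, zpow_two, ← mul_inv, inv_inv]⟩
    obtain ⟨h, -, h1, h2⟩ := exists_scale S hT hi hpj u
    rw [hu'] at h1 h2
    obtain ⟨h', -, h1', h2'⟩ := exists_scale S hT hj hp b
    have e := sym_eq_bracket S hT hi (b := (b : F)) (Units.ne_zero _) h1 h2
    have e' := sym_eq_bracket S hT hj (b := (u : F)) (Units.ne_zero _) h1' h2'
    rw [e]
    have ej := hj' (u : F) ((b ^ pair D (D.simple i) (D.simple j) : Fˣ) : F) u.ne_zero (Units.ne_zero _)
    rw [e', commutatorElement_eq_one_iff_mul_comm] at ej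
    have hcb : Commute (hb S (D.simple i) (b : F)) (hb S (D.simple j) (u : F)) := by
      obtain ⟨⟨c, hc1⟩, hxT⟩ := Hbar_le_Tor S hT (hb_mem S hi b.ne_zero)
      have e5 : hb S (D.simple i) (b : F) * hb S (D.simple j) (u : F) *
          (hb S (D.simple i) (b : F))⁻¹ = hb S (D.simple j) (u : F) := by
        have hh : ∀ r < D.nroots, ∀ t, hb S (D.simple i) (b : F) * S.X r t *
            (hb S (D.simple i) (b : F))⁻¹ = S.X r (((b ^ pair D (D.simple i) r : Fˣ) : F) * t) := by
          intro r hr t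
          refine hxT r hr _ _ ?_
          rw [th_hb S hp, hg_eq_tor hC hp, tor_conj_x hC _ r t hr, Perfect.torChar_pow hC]
        have h3 := sym_eq_bracket S hT hj (b := (u : F)) (h := hb S (D.simple i) (b : F))
          (Units.ne_zero (b ^ pair D (D.simple i) (D.simple j))) (hh _ hpj) (fun t => by
            rw [hh _ (hC.neg_lt hpj)]
            have : pair D (D.simple i) (D.neg (D.simple j)) = -pair D (D.simple i) (D.simple j) := by
              rw [pair, pair, ← Finset.sum_neg_distrib]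
              exact Finset.sum_congr rfl fun l hl => by
                rw [hC.cartan_neg hpj (Finset.mem_range.1 hl)]; ring
            rw [this, zpow_neg, Units.val_inv_eq_inv_val])
        rw [hj' _ _ u.ne_zero (Units.ne_zero _), eq_comm, commutatorElement_def, mul_inv_eq_one] at h3
        exact h3
      exact mul_inv_eq_iff_eq_mul.1 e5
    obtain ⟨⟨c, hc1⟩, hxT⟩ := Hbar_le_Tor S hT (hb_mem S hj u.ne_zero)
    have hh : ∀ r < D.nroots, ∀ t, hb S (D.simple j) (u : F) * S.X r t *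
        (hb S (D.simple j) (u : F))⁻¹ = S.X r (((u ^ pair D (D.simple j) r : Fˣ) : F) * t) := by
      intro r hr t
      refine hxT r hr _ _ ?_
      rw [th_hb S hpj, hg_eq_tor hC hpj, tor_conj_x hC _ r t hr, Perfect.torChar_pow hC]
    rw [← e, sym_eq_bracket S hT hi (b := (b : F)) (h := hb S (D.simple j) (u : F))
      (Units.ne_zero (k * k)) (fun t => by rw [hh _ hp, hu']) (fun t => by
        rw [hh _ (hC.neg_lt hp)]
        have : pair D (D.simple j) (D.neg (D.simple i)) = -pair D (D.simple j) (D.simple i) := by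
          rw [pair, pair, ← Finset.sum_neg_distrib]
          exact Finset.sum_congr rfl fun l hl => by
            rw [hC.cartan_neg hp (Finset.mem_range.1 hl)]; ring
        rw [this, zpow_neg, hu', Units.val_inv_eq_inv_val]),
      commutatorElement_eq_one_iff_mul_comm]
    exact hcb.eq.symm
  have hmulsq : ∀ b k : Fˣ, hb S (D.simple i) ((b * (k * k) : Fˣ) : F) =
      hb S (D.simple i) (b : F) * hb S (D.simple i) ((k * k : Fˣ) : F) := by
    intro b k
    have h := hsquare b k
    rw [sym, mul_inv_eq_one, mul_inv_eq_iff_eq_mul] at h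
    rw [mul_comm b (k * k), Units.val_mul, h]
  suffices key : ∀ x y : Fˣ, hb S (D.simple i) (x : F) * hb S (D.simple i) (y : F) =
      hb S (D.simple i) ((x * y : Fˣ) : F) by
    rw [sym, mul_assoc, ← mul_inv_rev, mul_inv_eq_one, mul_comm b a]
    exact (key (Units.mk0 a ha) (Units.mk0 b hb0)).symm
  have hcomm : ∀ x y : Fˣ, Commute (hb S (D.simple i) (x : F)) (hb S (D.simple i) (y : F)) :=
    fun x y => hb_comm_same S hT hi x.ne_zero y.ne_zero
  intro x y
  by_cases hx : IsSquare x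
  · obtain ⟨k, rfl⟩ := hx
    rw [mul_comm (k * k) y, hmulsq, (hcomm _ _).eq]
  by_cases hy : IsSquare y
  · obtain ⟨k, rfl⟩ := hy
    rw [hmulsq]
  have h2 : ringChar F ≠ 2 := by
    intro h2
    exact hx (by
      obtain ⟨s, hs⟩ := FiniteField.isSquare_of_char_two h2 (x : F)
      exact ⟨Units.mk0 s (fun h => x.ne_zero (by rw [hs, h, mul_zero])), Units.ext hs⟩)
  obtain ⟨g, hg⟩ := IsCyclic.exists_generator (α := Fˣ)
  have hns : ∀ z : Fˣ, ¬ IsSquare z → ∃ k : Fˣ, z = g * (k * k) := by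
    intro z hz
    obtain ⟨n, hn⟩ := Subgroup.mem_zpowers_iff.1 (hg z)
    rcases Int.even_or_odd n with ⟨m, hm⟩ | ⟨m, hm⟩
    · exact absurd ⟨g ^ m, by rw [← zpow_add, ← hm, hn]⟩ hz
    · exact ⟨g ^ m, by rw [← hn, hm, ← zpow_add, add_comm, zpow_add, zpow_one, two_mul]⟩
  have hred : ∀ k l : Fˣ, hb S (D.simple i) ((g * (k * k) : Fˣ) : F) *
      hb S (D.simple i) ((g * (l * l) : Fˣ) : F) *
        (hb S (D.simple i) ((g * (k * k) * (g * (l * l)) : Fˣ) : F))⁻¹ =
      hb S (D.simple i) (g : F) * hb S (D.simple i) (g : F) *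
        (hb S (D.simple i) ((g * g : Fˣ) : F))⁻¹ := by
    intro k l
    have e1 : g * (k * k) * (g * (l * l)) = g * g * (k * l * (k * l)) := by
      simp only [mul_comm, mul_left_comm]
    have e2 : k * l * (k * l) = k * k * (l * l) := by simp only [mul_comm, mul_left_comm]
    rw [e1, hmulsq, hmulsq, hmulsq (g * g), e2, hmulsq (k * k) l, mul_inv_rev,
      show hb S (D.simple i) (g : F) * hb S (D.simple i) ((k * k : Fˣ) : F) *
          (hb S (D.simple i) (g : F) * hb S (D.simple i) ((l * l : Fˣ) : F)) =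
        hb S (D.simple i) (g : F) * (hb S (D.simple i) ((k * k : Fˣ) : F) *
          hb S (D.simple i) (g : F)) * hb S (D.simple i) ((l * l : Fˣ) : F) by group,
      (hcomm (k * k) g).eq]
    have cA : Commute (hb S (D.simple i) ((k * k : Fˣ) : F) * hb S (D.simple i) ((l * l : Fˣ) : F))
        ((hb S (D.simple i) ((g * g : Fˣ) : F))⁻¹) :=
      Commute.inv_right (Commute.mul_left (hcomm _ _) (hcomm _ _))
    group
  obtain ⟨t, ht, ht'⟩ := exists_nonsquare_pair (F := F) h2
  have ht0 : t ≠ 0 := fun h => ht (h ▸ IsSquare.zero)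
  have ht1 : t ≠ 1 := fun h => ht (h ▸ IsSquare.one)
  have hs0 : 1 - t ≠ 0 := sub_ne_zero.2 (Ne.symm ht1)
  have hu1 : ∀ {z : F} (hz0 : z ≠ 0), ¬ IsSquare z → ¬ IsSquare (Units.mk0 z hz0) := by
    rintro z hz0 hz ⟨k, hk⟩
    exact hz ⟨k, by rw [← Units.val_mul, ← hk, Units.val_mk0]⟩
  obtain ⟨k, hk⟩ := hns _ (hu1 ht0 ht)
  obtain ⟨l, hl⟩ := hns _ (hu1 hs0 ht')
  have hst : hb S (D.simple i) ((g * (k * k) : Fˣ) : F) * hb S (D.simple i) ((g * (l * l) : Fˣ) : F) =
      hb S (D.simple i) ((g * (k * k) * (g * (l * l)) : Fˣ) : F) := by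
    rw [← hk, ← hl, Units.val_mul, Units.val_mk0, Units.val_mk0]
    have := sym_steinberg S hT hi ht0 ht1
    rw [sym, mul_assoc, ← mul_inv_rev, mul_inv_eq_one] at this
    rw [mul_comm t (1 - t), this]
  obtain ⟨k', rfl⟩ := hns x hx
  obtain ⟨l', rfl⟩ := hns y hy
  have h0 := hred k l
  rw [hst, mul_inv_cancel] at h0
  have h0' := hred k' l'
  rw [← h0, mul_inv_eq_one] at h0'
  exact h0'

/-- Multiplicativity for every root from that for the fundamental roots. -/
theorem hb_mul_of_simple (h : ∀ i < D.rank, ∀ a b : F, a ≠ 0 → b ≠ 0 → sym S i a b = 1) :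
    ∀ r < D.nroots, ∀ a b : F, a ≠ 0 → b ≠ 0 → hb S r a * hb S r b = hb S r (a * b) := by
  refine Root.simple_induction hC
    (fun i hi a b ha hb0 => mul_all_of_sym S (h i hi) ha hb0) fun r hr i hi ih a b ha hb0 => ?_
  obtain ⟨η, hη, he⟩ := eta_field (F := F) (i := i) (r := r) hC
  have hη2 : η * η = 1 := by
    rw [he]
    rcases Certified.eta_cases (T := T) i r with e | e <;> simp [e]
  have hr' := hC.reflect_lt hi hr
  have e1 : ∀ c : F, nb S (D.reflectRoot i r) c = n1 S i * nb S r (η * c) * (n1 S i)⁻¹ := by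
    intro c
    rw [n1_conj_nb S hT hi hr, ← he, ← mul_assoc, hη2, one_mul]
  have e2 : ∀ c : F, c ≠ 0 → hb S (D.reflectRoot i r) c =
      n1 S i * hb S r c * (n1 S i)⁻¹ := by
    intro c hc0
    rw [hb, e1, e1, show n1 S i * nb S r (η * c) * (n1 S i)⁻¹ * (n1 S i * nb S r (η * -1) *
      (n1 S i)⁻¹) = n1 S i * (nb S r (η * c) * nb S r (η * -1)) * (n1 S i)⁻¹ by group]
    congr 2
    rw [mul_neg, mul_one, nb_eq S hr (η * c), nb_eq S hr (-η), mul_comm η c,
      ← ih c η hc0 hη]
    have e3 : hb S r (-η) = hb S r η * hb S r (-1) := by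
      rw [ih η (-1) hη (neg_ne_zero.2 one_ne_zero), mul_neg, mul_one]
    have e4 : hb S r (-1) = (nb S r 1 * nb S r 1)⁻¹ := by
      rw [hb, ← nb_inv S hr, mul_inv_rev]
    have e5 : hb S r η * hb S r η = 1 := by
      rw [ih η η hη hη, hη2, hb, ← nb_inv S hr, mul_inv_cancel]
    have e6 : Commute (nb S r 1) (hb S r η) := by
      rcases mul_self_eq_one_iff.1 hη2 with e | e <;> rw [e]
      · rw [hb, ← nb_inv S hr, mul_inv_cancel]; exact Commute.one_right _
      · rw [e4]; exact ((Commute.refl _).mul_right (Commute.refl _)).inv_right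
    calc hb S r c * hb S r η * nb S r 1 * (hb S r (-η) * nb S r 1) =
        hb S r c * hb S r η * (nb S r 1 * hb S r η) * hb S r (-1) * nb S r 1 := by
          rw [e3]; group
      _ = hb S r c * (hb S r η * hb S r η) * nb S r 1 * hb S r (-1) * nb S r 1 := by
          rw [e6.eq]; group
      _ = hb S r c := by rw [e5, e4]; group
  rw [e2 a ha, e2 b hb0, e2 _ (mul_ne_zero ha hb0), ← ih a b ha hb0]
  group

end Cfsg.Agent.Chevalley.Cover.Symbol
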